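import Groth.Agent.ShStab.K752.Glue2

/-!
# Strong slope semistability in rank two and three: the induction
-/

set_option autoImplicit false
universe u
open CategoryTheory CategoryTheory.Limits AlgebraicGeometry Opposite TopologicalSpace Module Polynomial

namespace K752.Strong

open K848.Hull K849.CstTor K849.CstDeg K849.Fam K848.HB StabCat
open K849.FrobPull K849.OmegaEta
open K752.Ranks K752.FamDual K752.FamFrob K752.Semi K752.Fund K752.Glue

variable {X : Scheme.{u}} [IsIntegral X]

attribute [local instance 50] modAt

variable (k : Type u) [Field k] [X.Over (Spec (CommRingCat.of k))] [IsProper (X ↘ Spec (CommRingCat.of k))]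
  [Smooth (X ↘ Spec (CommRingCat.of k))] {L : X.Modules} {n : ℕ}
  (p : ℕ) [Fact p.Prime] [CharP k p] [PerfectField k] [FrobSch.IsCharP X p]

/-- The step, given the statement on families. -/
theorem step [IsNoetherian X] [RegOne X] (hL : CohB1.IsAmple L) (hn : topologicalKrullDim X = n) {r : ℕ}
    {G : X.Modules} (h : SS k L n r G)
    (hs : ∀ b : Basis (Fin r) X.functionField (G.presheaf.stalk (genericPoint X)),
      ∀ W : Submodule X.functionField ((FP p G).presheaf.stalk (genericPoint X)),
        Deg (dlt k L n) (sub (tw (twG p G) (lf G)) W) ≤ 0) : SS k L n r (FP p G) := by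
  have hfin := finite_gen h.coh
  let b : Basis (Fin r) X.functionField (G.presheaf.stalk (genericPoint X)) :=
    Module.finBasisOfFinrankEq X.functionField _ h.rk
  have := charP_functionField (X := X) p
  have D := data k p hL hn h.coh h.tf
  refine ⟨isCoh_FP p G h.coh, isTorsionFree_FP_of_smooth p (X ↘ Spec (CommRingCat.of k)) h.tf, ?_, ?_, fun W => ?_⟩
  · exact (Module.finrank_eq_card_basis ((twG p G).tb b)).trans (Fintype.card_fin r)
  · rw [lf_FP, Deg_tw D.prin D.fam (twG p G) b, h.deg, mul_zero]
  · rw [lf_FP]
    exact hs b W

/-- **Rank two.** -/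
theorem strong_two [IsNoetherian X] [RegOne X] (hL : CohB1.IsAmple L) (hn : topologicalKrullDim X = n)
    (hM : ∀ U : Submodule X.functionField ((Om k X).presheaf.stalk (genericPoint X)), U ≠ ⊥ →
      Deg (dlt k L n) (sub (lf (Om k X)) U) < 2 * finrank X.functionField U)
    {G : X.Modules} (h : SS k L n 2 G) (m : ℕ) :
    SS k L n 2 (((Scheme.Modules.pullback (FrobSch.frob X p)).obj)^[m] G) := by
  have hfM := finite_gen (isCoh_Om k X)
  have := charP_functionField (X := X) p
  induction m with
  | zero => exact h
  | succ m ih =>
    rw [Function.iterate_succ_apply']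
    exact step k p hL hn ih fun b W => semistable_two (data k p hL hn ih.coh ih.tf) b _ ih.deg ih.ss hM W

/-- **Rank three.** -/
theorem strong_three [IsNoetherian X] [RegOne X] (hL : CohB1.IsAmple L) (hn : topologicalKrullDim X = n)
    (hM : ∀ U : Submodule X.functionField ((Om k X).presheaf.stalk (genericPoint X)), U ≠ ⊥ →
      Deg (dlt k L n) (sub (lf (Om k X)) U) < finrank X.functionField U)
    {G : X.Modules} (h : SS k L n 3 G) (m : ℕ) :
    SS k L n 3 (((Scheme.Modules.pullback (FrobSch.frob X p)).obj)^[m] G) := by
  have hfM := finite_gen (isCoh_Om k X)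
  have := charP_functionField (X := X) p
  induction m with
  | zero => exact h
  | succ m ih =>
    rw [Function.iterate_succ_apply']
    exact step k p hL hn ih fun b W => semistable_three (data k p hL hn ih.coh ih.tf) b _ ih.deg ih.ss hM W

end K752.Strong
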