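import Groth.Agent.ShStab.K752.N5b

/-!
# S18559: composite twists, and the final statement on families
-/

set_option autoImplicit false
universe u
open CategoryTheory CategoryTheory.Limits AlgebraicGeometry Opposite TopologicalSpace Module

namespace K752.N5

open K849.DvrLat K849.CstTor K849.CstDeg K849.Fam K752.Semi K752.FamPair K752.FamFrob K752.FamDual K752.Fund K752.Ranks
open K991.FamT

section tw

variable {K : Type*} [Field K] {V V' : Type*} [AddCommGroup V] [Module K V] [AddCommGroup V'] [Module K V']
  {ι : Type} [Fintype ι] {q : ℕ}

/-- A twist from a basis carried to a basis. -/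
noncomputable def twOf (ψ : V →+ V') (hs : ∀ (a : K) (v : V), ψ (a • v) = a ^ q • ψ v) (b : Basis ι K V)
    (b' : Basis ι K V') (h : ∀ i, b' i = ψ (b i)) : Tw q K V V' where
  ψ := ψ
  smul := hs
  basis r c := by
    have hcard : Fintype.card (Fin r) = finrank K V' := by
      rw [Module.finrank_eq_card_basis b', ← Module.finrank_eq_card_basis b, Module.finrank_eq_card_basis c]
    have hspan : ⊤ ≤ Submodule.span K (Set.range fun j => ψ (c j)) := by
      rw [← b'.span_eq, Submodule.span_le]
      rintro _ ⟨i, rfl⟩
      rw [h, ← c.sum_repr (b i), map_sum]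
      refine Submodule.sum_mem _ fun j _ => ?_
      rw [hs]
      exact Submodule.smul_mem _ _ (Submodule.subset_span ⟨j, rfl⟩)
    exact ⟨basisOfTopLeSpanOfCardEqFinrank _ hspan hcard, fun j => by
      rw [coe_basisOfTopLeSpanOfCardEqFinrank]⟩

variable {p : ℕ} [Fact p.Prime] [CharP K p]

/-- The twist of order `p ^ m` in coordinates. -/
noncomputable def twP (m : ℕ) (b : Basis ι K V) (b' : Basis ι K V') : Tw (p ^ m) K V V' :=
  twOf
    { toFun := fun v => ∑ i, (b.repr v i) ^ p ^ m • b' i
      map_zero' := by
        have : p ^ m ≠ 0 := pow_ne_zero _ (Fact.out : p.Prime).ne_zero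
        refine Finset.sum_eq_zero fun i _ => ?_
        rw [map_zero, Finsupp.zero_apply, zero_pow this, zero_smul]
      map_add' := fun v w => by
        rw [← Finset.sum_add_distrib]
        refine Finset.sum_congr rfl fun i _ => ?_
        rw [map_add, Finsupp.add_apply, add_pow_char_pow, add_smul] }
    (fun a v => by
      change ∑ i, (b.repr (a • v) i) ^ p ^ m • b' i = a ^ p ^ m • ∑ i, (b.repr v i) ^ p ^ m • b' i
      rw [Finset.smul_sum]
      refine Finset.sum_congr rfl fun i _ => ?_
      rw [map_smul, Finsupp.smul_apply, smul_eq_mul, mul_pow, mul_smul])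
    b b' (fun i => by
      classical
      change b' i = ∑ j, (b.repr (b i) j) ^ p ^ m • b' j
      have : p ^ m ≠ 0 := pow_ne_zero _ (Fact.out : p.Prime).ne_zero
      rw [Finset.sum_eq_single i]
      · rw [b.repr_self, Finsupp.single_eq_same, one_pow, one_smul]
      · intro j _ hj
        rw [b.repr_self, Finsupp.single_eq_of_ne hj, zero_pow this, zero_smul]
      · intro hi
        exact absurd (Finset.mem_univ _) hi)

theorem twP_ψ (m : ℕ) (b : Basis ι K V) (b' : Basis ι K V') (v : V) :
    (twP (p := p) m b b').ψ v = ∑ i, (b.repr v i) ^ p ^ m • b' i := rfl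

end tw

variable {X : Scheme.{u}} [IsIntegral X]

attribute [local instance 50] modAt

variable {V : Type u} [AddCommGroup V] [Module (X.presheaf.stalk (genericPoint X)) V]
  {V' : Type u} [AddCommGroup V'] [Module (X.presheaf.stalk (genericPoint X)) V']
  {ι : Type} [Fintype ι] {p : ℕ} [IsNoetherian X] [RegOne X] {δ : C1 X → ℚ}

/-- Semistability is invariant under isomorphisms of families. -/
theorem sst_equiv (hδ : IsPrin δ) (h0 : ∀ y, 0 ≤ δ y) {Λ : LFam X V} (h : IsFam Λ) {Λ' : LFam X V'} (h' : IsFam Λ')
    [Module.Finite X.functionField V] (e : V ≃ₗ[X.functionField] V') (he : ∀ y v, v ∈ Λ y ↔ e v ∈ Λ' y)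
    (hs : SSt δ Λ) : SSt δ Λ' := by
  have hf : Module.Finite X.functionField V' := Module.Finite.equiv e
  intro W'
  let W : Submodule X.functionField V := W'.comap e.toLinearMap
  let eW : W' ≃ₗ[X.functionField] W :=
    { toFun := fun w => ⟨e.symm w, by change e (e.symm w) ∈ W'; rw [e.apply_symm_apply]; exact w.2⟩
      map_add' := fun a b => Subtype.ext (map_add e.symm _ _)
      map_smul' := fun a b => Subtype.ext (map_smul e.symm _ _)
      invFun := fun w => ⟨e w, w.2⟩
      left_inv := fun w => Subtype.ext (e.apply_symm_apply _)
      right_inv := fun w => Subtype.ext (e.symm_apply_apply _) }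
  have h1 := Deg_le_of_equiv hδ h0 (fam_sub h' W') (fam_sub h W) eW (Module.finBasis X.functionField W')
    (fun y v hv => by
      change e.symm (v : V') ∈ Λ y
      rw [he, e.apply_symm_apply]
      exact hv)
  have h2 := Deg_le_of_equiv hδ h0 h h' e (Module.finBasis X.functionField V) (fun y v hv => (he y v).1 hv)
  have h3 := hs W
  have e1 : finrank X.functionField W' = finrank X.functionField W := eW.finrank_eq
  have e2 : finrank X.functionField V = finrank X.functionField V' := e.finrank_eq
  rw [e1, ← e2]
  exact (mul_le_mul_of_nonneg_left h1 (Nat.cast_nonneg _)).trans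
    (h3.trans (mul_le_mul_of_nonneg_left h2 (Nat.cast_nonneg _)))

/-- **Twists of order `p` suffice.** -/
theorem strong_of [Fact p.Prime] [CharP X.functionField p] (hδ : IsPrin δ) (h0 : ∀ y, 0 ≤ δ y) (N : ℕ)
    (H : ∀ (V : Type u) [AddCommGroup V] [Module (X.presheaf.stalk (genericPoint X)) V]
      [Module.Finite X.functionField V] (Λ : LFam X V), IsFam Λ → finrank X.functionField V ≤ N → SSt δ Λ →
      ∀ (V' : Type u) [AddCommGroup V'] [Module (X.presheaf.stalk (genericPoint X)) V']
        (T : Tw p X.functionField V V'), SSt δ (tw T Λ))
    [Module.Finite X.functionField V] {Λ : LFam X V} (h : IsFam Λ) (hN : finrank X.functionField V ≤ N)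
    (hs : SSt δ Λ) : Strong p δ Λ := by
  intro m
  induction m generalizing V with
  | zero =>
    intro V' _ _ T
    let b := Module.finBasis X.functionField V
    let e : V ≃ₗ[X.functionField] V' := b.equiv (T.tb b) (Equiv.refl _)
    have he : ∀ v, e v = T.ψ v := fun v => by
      rw [T.ψ_eq b v]
      conv_lhs => rw [← b.sum_repr v]
      rw [map_sum]
      refine Finset.sum_congr rfl fun i _ => ?_
      have hp : (b.repr v i) ^ p ^ 0 = b.repr v i := by rw [pow_zero, pow_one]
      refine (map_smul e _ _).trans ?_
      rw [hp]
      congr 1
      exact b.equiv_apply i (T.tb b) (Equiv.refl _)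
    refine sst_equiv hδ h0 h (h.tw T b) e (fun y v => ⟨fun hv => ?_, fun hv => ?_⟩) hs
    · rw [he]
      exact Submodule.subset_span ⟨v, hv, rfl⟩
    · have h1 : ∀ x ∈ tw T Λ y, e.symm x ∈ Λ y := by
        intro x hx
        induction hx using Submodule.span_induction with
        | mem x hx =>
          obtain ⟨v, hv, rfl⟩ := hx
          rw [← he, e.symm_apply_apply]
          exact hv
        | zero => rw [map_zero]; exact Submodule.zero_mem _
        | add x x' _ _ hx hx' => rw [map_add]; exact Submodule.add_mem _ hx hx'
        | smul r x _ hx =>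
          rw [← algebraMap_smul X.functionField r x, map_smul, algebraMap_smul]
          exact Submodule.smul_mem _ _ hx
      have h2 := h1 _ hv
      rwa [e.symm_apply_apply] at h2
  | succ m ih =>
    intro V' _ _ T
    let b := Module.finBasis X.functionField V
    let V1 : Type u := Fin (finrank X.functionField V) → X.functionField
    let b1 : Basis (Fin (finrank X.functionField V)) X.functionField V1 := Pi.basisFun _ _
    let T0 : Tw (p ^ m) X.functionField V V1 := twP m b b1
    let T1' : Tw (p ^ 1) X.functionField V1 V' := twP 1 b1 (T.tb b)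
    let T1 : Tw p X.functionField V1 V' :=
      { ψ := T1'.ψ
        smul := fun a v => by
          have hp : a ^ p ^ 1 = a ^ p := by rw [pow_one]
          rw [← hp]
          exact T1'.smul a v
        basis := T1'.basis }
    have hc : ∀ v, T1.ψ (T0.ψ v) = T.ψ v := fun v => by
      change T1'.ψ (T0.ψ v) = _
      rw [twP_ψ, twP_ψ, T.ψ_eq b v]
      refine Finset.sum_congr rfl fun i _ => ?_
      rw [Basis.repr_sum_self, ← pow_mul, ← pow_add]
    have hfam : IsFam (tw T0 Λ) := h.tw T0 b
    have h1 := ih h hN hs V1 T0
    have hr : finrank X.functionField V1 ≤ N := by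
      rw [Module.finrank_eq_card_basis b1, Fintype.card_fin]
      exact hN
    have h2 := H V1 (tw T0 Λ) hfam hr h1 V' T1
    have h3 : tw T1 (tw T0 Λ) = tw T Λ := by
      funext y
      refine le_antisymm (Submodule.span_le.2 ?_) (Submodule.span_le.2 ?_)
      · rintro _ ⟨x, hx, rfl⟩
        change x ∈ Submodule.span (X.presheaf.stalk y.1) (T0.ψ '' (Λ y : Set V)) at hx
        induction hx using Submodule.span_induction with
        | mem x hx =>
          obtain ⟨v, hv, rfl⟩ := hx
          rw [hc]
          exact Submodule.subset_span ⟨v, hv, rfl⟩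
        | zero => rw [map_zero]; exact Submodule.zero_mem _
        | add x x' _ _ hx hx' => rw [map_add]; exact Submodule.add_mem _ hx hx'
        | smul r x _ hx =>
          rw [ψ_smul_at]
          exact Submodule.smul_mem _ _ hx
      · rintro _ ⟨v, hv, rfl⟩
        rw [← hc]
        exact Submodule.subset_span ⟨T0.ψ v, Submodule.subset_span ⟨v, hv, rfl⟩, rfl⟩
    rwa [h3] at h2

/-- **Twists of semistable families are semistable** (N5). -/
theorem stmtF (p : ℕ) [Fact p.Prime] [CharP X.functionField p] (hMT : StmtMT X p) : StmtF X p := by
  intro δ hδ h0 hi M _ _ _ ΛM hM d hd hker r hU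
  have main : ∀ n : ℕ, ∀ (V : Type u) [AddCommGroup V] [Module (X.presheaf.stalk (genericPoint X)) V]
      [Module.Finite X.functionField V] (Λ : LFam X V), IsFam Λ → finrank X.functionField V ≤ n →
      finrank X.functionField V ≤ r → SSt δ Λ →
      ∀ (V' : Type u) [AddCommGroup V'] [Module (X.presheaf.stalk (genericPoint X)) V']
        (T : Tw p X.functionField V V'), SSt δ (tw T Λ) := by
    intro n
    induction n with
    | zero =>
      intro V _ _ _ Λ h hn hr hs V' _ _ T W
      let b := Module.finBasis X.functionField V
      have hfin' : Module.Finite X.functionField V' := Module.Finite.of_basis (T.tb b)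
      have h1 : finrank X.functionField V' = 0 := by
        rw [Module.finrank_eq_card_basis (T.tb b), Fintype.card_fin]
        omega
      have h2 : finrank X.functionField W = 0 := Nat.le_zero.1 (h1 ▸ W.finrank_le)
      rw [h1, h2]
      simp
    | succ n ih =>
      intro V _ _ _ Λ h hn hr hs V' _ _ T
      by_contra hns
      let b := Module.finBasis X.functionField V
      have hfin' : Module.Finite X.functionField V' := Module.Finite.of_basis (T.tb b)
      have hΛ' := h.tw T b
      have hV : finrank X.functionField V' = finrank X.functionField V := by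
        rw [Module.finrank_eq_card_basis (T.tb b), Fintype.card_fin]
      have hnt : Nontrivial V' := by
        by_contra hc
        rw [not_nontrivial_iff_subsingleton] at hc
        refine hns fun W => ?_
        have h1 : finrank X.functionField V' = 0 := Module.finrank_zero_of_subsingleton
        have h2 : finrank X.functionField W = 0 := Nat.le_zero.1 (h1 ▸ W.finrank_le)
        rw [h1, h2]
        simp
      obtain ⟨W, hW, hmin⟩ := exists_minQuot hδ h0 hi hΛ'
      refine contra (p := p) hMT hδ h0 hi hM d hd r hU h hr T b (fun A _ _ _ ΛA hA hAr hAs => ?_) W hW hmin ?_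
      · exact strong_of hδ h0 (finrank X.functionField V - 1) (fun V _ _ _ Λ h1 h2 h3 V' _ _ T =>
          ih V Λ h1 (by omega) (by omega) h3 V' T) hA (by omega) hAs
      · intro hθ
        have h1 := descent T d hker b W (fun w hw q hq => by
          let q' : (V' ⧸ W) →ₗ[X.functionField] X.functionField := W.liftQ q hq
          have h2' : betaBil d (T.tb b) W ⟨w, hw⟩ q' = 0 := by
            rw [hθ]
            rfl
          have e : q'.comp W.mkQ = q := LinearMap.ext fun _ => rfl
          exact (congrArg (theta d (T.tb b) w) e).symm.trans h2')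
        have h2 := Deg_sub_post hδ h T b (T.pre W)
        have h3 := Deg_tw hδ h T b
        have h4 := finrank_post T (T.pre W)
        rw [h1] at h2 h4
        have h5 := hs (T.pre W)
        have h6 : (0 : ℚ) ≤ p := Nat.cast_nonneg p
        -- so `W` is not destabilizing
        apply hns
        intro U
        by_cases hUt : U = ⊤
        · subst hUt
          rw [deg_top hδ hΛ', finrank_top]
        · have m1 := (hmin U hUt).1
          have r1 := W.finrank_quotient_add_finrank
          have r2 := U.finrank_quotient_add_finrank
          have e1 := deg_exact hδ hΛ' W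
          have e2 := deg_exact hδ hΛ' U
          have q1 : (finrank X.functionField (V' ⧸ W) : ℚ) + finrank X.functionField W = finrank X.functionField V' := by
            exact_mod_cast r1
          have q2 : (finrank X.functionField (V' ⧸ U) : ℚ) + finrank X.functionField U = finrank X.functionField V' := by
            exact_mod_cast r2
          have hb : 0 < finrank X.functionField (V' ⧸ W) := by
            refine Nat.pos_of_ne_zero fun h7 => hW ?_
            have : Subsingleton (V' ⧸ W) := Module.finrank_zero_iff.1 h7
            exact Submodule.Quotient.subsingleton_iff.1 this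
          have hbq : (0 : ℚ) < finrank X.functionField (V' ⧸ W) := by exact_mod_cast hb
          -- `W` satisfies the semistability inequality
          have k1 : (finrank X.functionField V' : ℚ) * Deg δ (sub (tw T Λ) W) ≤
              finrank X.functionField W * Deg δ (tw T Λ) := by
            rw [h2, h3, hV, h4]
            have := mul_le_mul_of_nonneg_left h5 h6
            linarith
          -- hence the quotient by `W` has slope at least that of `V'`
          have k2 : (finrank X.functionField (V' ⧸ W) : ℚ) * Deg δ (tw T Λ) ≤
              finrank X.functionField V' * Deg δ (quo (tw T Λ) W) := by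
            rw [← q1] at k1 ⊢
            rw [e1] at k1 ⊢
            linarith
          have hu : (0 : ℚ) ≤ finrank X.functionField (V' ⧸ U) := Nat.cast_nonneg _
          have hv : (0 : ℚ) ≤ finrank X.functionField V' := Nat.cast_nonneg _
          have k3 := mul_le_mul_of_nonneg_left k2 hu
          have k4 := mul_le_mul_of_nonneg_left m1 hv
          have k5 : (finrank X.functionField (V' ⧸ W) : ℚ) * (finrank X.functionField (V' ⧸ U) * Deg δ (tw T Λ)) ≤
              finrank X.functionField (V' ⧸ W) * (finrank X.functionField V' * Deg δ (quo (tw T Λ) U)) := by linarith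
          have k6 := le_of_mul_le_mul_left k5 hbq
          rw [← q2] at k6 ⊢
          rw [e2] at k6 ⊢
          linarith
  intro V _ _ _ Λ h hr hs V' _ _ T
  exact main r V Λ h hr hr hs V' T

end K752.N5
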