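import Groth.Agent.ShStab.K752.Glue2
import Groth.Agent.ShStab.K991.FamT
import Groth.Agent.ShStab.K752.Strong
import Groth.Agent.Variety.K658.RelDimComp

/-!
# Strong slope semistability in any rank and slope, from the statement on families
-/

set_option autoImplicit false
universe u
open CategoryTheory CategoryTheory.Limits AlgebraicGeometry Opposite TopologicalSpace Module Polynomial

namespace K752.StrongT

open Groth.Agent Groth.Agent.CycB.StalkExact K848.Hull
open K849.DvrLat K849.CstTor K849.CstDeg K849.Fam K849.Cst K848.TF K848.Rank K848.HB K848.Dim K848.Poly K848.Stab StabCat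
open K849.FrobPull K849.OmegaEta
open K752.Ranks K752.FamDual K752.FamFrob K752.Semi K752.Fund K752.Glue

variable {X : Scheme.{u}} [IsIntegral X]

attribute [local instance 50] modAt

variable (k : Type u) [Field k] [X.Over (Spec (CommRingCat.of k))] [IsProper (X ↘ Spec (CommRingCat.of k))]
  [IsNoetherian X] [RegOne X] {L : X.Modules} {n : ℕ}

/-- Slope semistability through the generic subspaces. -/
structure SG (L : X.Modules) (n r : ℕ) (G : X.Modules) : Prop where
  coh : Coh.IsCoh G
  tf : TorSh.IsTorsionFree G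
  rk : rk G = r
  ss : K991.FamT.SSt (dlt k L n) (lf G)

/-- Slope semistability from the generic subspaces. -/
theorem isMuSemistable_of_SG (hL : CohB1.IsAmple L) (hn : topologicalKrullDim X = n) (h1 : 1 ≤ n) {r : ℕ} (hr : r ≠ 0)
    {G : X.Modules} (h : SG k L n r G) : ShStab.IsMuSemistable k X L G n := by
  have hrk : rk G ≠ 0 := by rw [h.rk]; exact hr
  have hdim := dim_support_eq hn h.coh hrk
  have h0 : ¬ IsZero G := fun hz => by
    have h2 : CohB1.support G = ∅ := Groth.Agent.CohqB.DevSupport.support_eq_empty_of_isZero hz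
    have h3 := support_eq_univ h.coh hrk
    rw [h2] at h3
    exact (Set.empty_ne_univ (α := X)) h3
  refine ⟨h.coh, h0, hdim, fun F ι hι hF => ?_, fun F ι hι hF pF pG hpF hpG hpos hlt => ?_⟩
  · by_cases hz : IsZero F
    · have h2 : CohB1.support F = ∅ := Groth.Agent.CohqB.DevSupport.support_eq_empty_of_isZero hz
      rw [h2]
      have h3 : topologicalKrullDim (∅ : Set X) = ⊥ := by
        have : IsEmpty (TopologicalSpace.IrreducibleCloseds (∅ : Set X)) :=
          ⟨fun s => s.isIrreducible.nonempty.elim fun x _ => x.2⟩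
        exact Order.krullDim_eq_bot
      rw [h3]
      simp
    · rw [dim_support_eq hn hF (rk_ne_zero ι hF h.tf hz)]
      intro h2
      have h3 : (n : WithBot ℕ∞) + 1 = ((n + 1 : ℕ) : WithBot ℕ∞) := by push_cast; rfl
      rw [h3] at h2
      have h4 : n + 1 = n := by exact_mod_cast h2
      omega
  · obtain rfl := eq_hp k hpF
    obtain rfl := eq_hp k hpG
    have hFt := isTorsionFree_of_mono ι h.tf
    let W : Submodule X.functionField (G.presheaf.stalk (genericPoint X)) := LinearMap.range (stalkLin ι (genericPoint X))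
    have hfin := finite_gen h.coh
    let e : F.presheaf.stalk (genericPoint X) →ₗ[X.presheaf.stalk (genericPoint X)] W :=
      (stalkLin ι (genericPoint X)).rangeRestrict
    have he : Function.Bijective e := ⟨fun a b hab => stalkLin_injective ι _ (congrArg Subtype.val hab),
      LinearMap.surjective_rangeRestrict _⟩
    have h2 := alpha_eq k hL.1 hn hF hFt e he
    have h3 : Deg (dlt k L n) (fun y : C1 X => lat F e y.1) ≤ Deg (dlt k L n) (sub (lf G) W) := by
      refine Deg_mono (fun y => (dlt_pos k hL hn y).le) (isFam_lat hF hFt e he)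
        (fam_sub (isFam_lat h.coh h.tf LinearMap.id Function.bijective_id) W) fun y => ?_
      rintro _ ⟨m, rfl⟩
      refine ⟨stalkLin ι y.1 m, ?_⟩
      change G.presheaf.stalkSpecializes (K848.TF.gen y.1) (stalkLin ι y.1 m) =
        stalkLin ι _ (F.presheaf.stalkSpecializes (K848.TF.gen y.1) m)
      rw [stalkLin_spec]
    have h4 := h.ss W
    have h5 := alpha_eq k hL.1 hn h.coh h.tf LinearMap.id Function.bijective_id
    have h5' : alpha (n - 1) (hp k L G) = finrank X.functionField (G.presheaf.stalk (genericPoint X)) *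
        alpha (n - 1) (hp k L (Coh.structureModule X)) + Deg (dlt k L n) (lf G) := h5
    have h6 := alpha_rk k hL.1 hn hF
    have h7 := alpha_rk k hL.1 hn h.coh
    have h8 : finrank X.functionField W = rk F := (LinearEquiv.ofBijective e he).finrank_eq.symm
    have h9 : finrank X.functionField (G.presheaf.stalk (genericPoint X)) = rk G := rfl
    have h10 := alpha_O_pos k hL hn
    rw [h8] at h2 h4
    rw [h9] at h5' h4
    have hF0 : (0 : ℚ) < rk F := by
      rw [h6] at hpos
      exact (mul_pos_iff_of_pos_right h10).1 hpos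
    have hG0 : (0 : ℚ) < rk G := by exact_mod_cast Nat.pos_of_ne_zero hrk
    rw [hatSlope, hatSlope, h2, h5', h6, h7, div_le_div_iff₀ (mul_pos hF0 h10) (mul_pos hG0 h10)]
    have h11 : (rk G : ℚ) * Deg (dlt k L n) (fun y : C1 X => lat F e y.1) ≤ rk F * Deg (dlt k L n) (lf G) :=
      (mul_le_mul_of_nonneg_left h3 hG0.le).trans h4
    have h12 := mul_le_mul_of_nonneg_right h11 h10.le
    nlinarith [h12]

/-- Gieseker semistable modules of full dimension. -/
theorem SG_of_isSemistable (hL : CohB1.IsAmple L) (hn : topologicalKrullDim X = n) {r : ℕ} (hr : r ≠ 0)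
    {P0 PH : ℚ[X]} (hP0 : ShStab.IsHilbPoly k X L (Coh.structureModule X) P0) {H : X.Modules}
    (hPH : ShStab.IsHilbPoly k X L H PH) (hH : ShStab.IsSemistable k X L H n)
    (hrk : alpha n PH = r * alpha n P0) : SG k L n r H := by
  obtain rfl := eq_hp k hP0
  obtain rfl := eq_hp k hPH
  obtain ⟨hc, hz, hpure, hss⟩ := hH
  have ht := isTorsionFree_of_isPure hn hc hpure
  have hα := alpha_O_pos k hL hn
  have hrk' : rk H = r := by
    rw [alpha_rk k hL.1 hn hc] at hrk
    have := mul_right_cancel₀ hα.ne' hrk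
    exact_mod_cast this
  have hr0 : (0 : ℚ) < r := by exact_mod_cast Nat.pos_of_ne_zero hr
  have hfin := finite_gen hc
  have hfam := isFam_lat hc ht LinearMap.id Function.bijective_id
  have h5 := alpha_eq k hL.1 hn hc ht LinearMap.id Function.bijective_id
  have h9 : finrank X.functionField (H.presheaf.stalk (genericPoint X)) = r := hrk'
  rw [h9] at h5
  have h5' : alpha (n - 1) (hp k L H) = r * alpha (n - 1) (hp k L (Coh.structureModule X)) +
      Deg (dlt k L n) (lf H) := h5
  refine ⟨hc, ht, hrk', fun W => ?_⟩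
  rw [h9]
  by_cases hs0 : finrank X.functionField W = 0
  · rw [deg_sub_bot (prin k hL.1 hn) hfam W hs0, hs0]
    simp
  by_cases hsr : finrank X.functionField W = r
  · have h6 := W.finrank_quotient_add_finrank
    rw [deg_sub_top (prin k hL.1 hn) hfam W (by omega), hsr]
  have hFc := isCoh_genSub W hc
  have hFrk : rk (genSub H W).toModules = finrank X.functionField W := rk_genSub W
  have hFz : ¬ IsZero (genSub H W).toModules := fun h0 => hs0 (by
    rw [← hFrk]
    have h2 : Subsingleton ((genSub H W).toModules.presheaf.stalk (genericPoint X)) :=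
      (Groth.Agent.VarietyB.ExactLoc.isZero_iff_stalk _).1 h0 _
    exact Module.finrank_zero_of_subsingleton)
  have hiso : ¬ IsIso (genSub H W).ι := fun h0 => hsr (by
    rw [← hFrk, rk_iso (asIso (genSub H W).ι), hrk'])
  have h6 := hss _ (genSub H W).ι inferInstance hFc hFz hiso _ _ (isHilbPoly_hp k hL.1 hFc) (isHilbPoly_hp k hL.1 hc)
  have h7 := alpha_rk k hL.1 hn hFc
  have h8 := alpha_genSub k hL.1 hn hc ht W
  have hnF := natDegree_le k hL.1 hn hFc
  have hnH := natDegree_le k hL.1 hn hc
  rw [hFrk] at h7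
  have h10 := coeff_pred_le_of_polyLE (d := n) ((natDegree_smul_le _ _).trans hnF) ((natDegree_smul_le _ _).trans hnH) h6
    (by
      rw [coeff_smul, coeff_smul, smul_eq_mul, smul_eq_mul, alpha, alpha]
      ring)
  rw [coeff_smul, coeff_smul, smul_eq_mul, smul_eq_mul, hrk, h7] at h10
  have h11 : (r * alpha n (hp k L (Coh.structureModule X))) * alpha (n - 1) (hp k L (genSub H W).toModules) ≤
      (finrank X.functionField W * alpha n (hp k L (Coh.structureModule X))) * alpha (n - 1) (hp k L H) := by
    have h12 := mul_le_mul_of_nonneg_left h10 (factorial_pos' (n - 1)).le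
    have e1 : alpha (n - 1) (hp k L (genSub H W).toModules) =
      ((n - 1).factorial : ℚ) * (hp k L (genSub H W).toModules).coeff (n - 1) := rfl
    have e2 : alpha (n - 1) (hp k L H) = ((n - 1).factorial : ℚ) * (hp k L H).coeff (n - 1) := rfl
    rw [e1, e2]
    linarith
  rw [h8, h5'] at h11
  have h12 : alpha n (hp k L (Coh.structureModule X)) * (r * Deg (dlt k L n) (sub (lf H) W)) ≤
      alpha n (hp k L (Coh.structureModule X)) * (finrank X.functionField W * Deg (dlt k L n) (lf H)) := by linarith
  exact le_of_mul_le_mul_left h12 hα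

variable [Smooth (X ↘ Spec (CommRingCat.of k))] (p : ℕ) [Fact p.Prime] [CharP k p] [PerfectField k] [FrobSch.IsCharP X p]

/-- The step. -/
theorem step (hF : K991.FamT.StmtF X p) (hL : CohB1.IsAmple L) (hn : topologicalKrullDim X = n) {r : ℕ}
    (hM : ∀ a b : ℕ, 1 ≤ a → 1 ≤ b → a + b ≤ r →
      ∀ U : Submodule X.functionField ((Om k X).presheaf.stalk (genericPoint X)), U ≠ ⊥ →
        (Nat.lcm a b : ℚ) * Deg (dlt k L n) (sub (lf (Om k X)) U) < finrank X.functionField U)
    {G : X.Modules} (h : SG k L n r G) : SG k L n r (FP p G) := by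
  have hfin := finite_gen h.coh
  have hfM := finite_gen (isCoh_Om k X)
  let b : Basis (Fin r) X.functionField (G.presheaf.stalk (genericPoint X)) :=
    Module.finBasisOfFinrankEq X.functionField _ h.rk
  have := charP_functionField (X := X) p
  have D := data k p hL hn h.coh h.tf
  refine ⟨isCoh_FP p G h.coh, isTorsionFree_FP_of_smooth p (X ↘ Spec (CommRingCat.of k)) h.tf, ?_, ?_⟩
  · exact (Module.finrank_eq_card_basis ((twG p G).tb b)).trans (Fintype.card_fin r)
  · rw [lf_FP]
    exact hF (dlt k L n) D.prin D.nonneg D.int _ (lf (Om k X)) D.famM (dη k X) D.mem D.ker r hM _ (lf G) D.fam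
      h.rk.le h.ss _ (twG p G)

/-- All Frobenius twists. -/
theorem strong (hF : K991.FamT.StmtF X p) (hL : CohB1.IsAmple L) (hn : topologicalKrullDim X = n) {r : ℕ}
    (hM : ∀ a b : ℕ, 1 ≤ a → 1 ≤ b → a + b ≤ r →
      ∀ U : Submodule X.functionField ((Om k X).presheaf.stalk (genericPoint X)), U ≠ ⊥ →
        (Nat.lcm a b : ℚ) * Deg (dlt k L n) (sub (lf (Om k X)) U) < finrank X.functionField U)
    {G : X.Modules} (h : SG k L n r G) (m : ℕ) :
    SG k L n r (((Scheme.Modules.pullback (FrobSch.frob X p)).obj)^[m] G) := by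
  induction m with
  | zero => exact h
  | succ m ih =>
    rw [Function.iterate_succ_apply']
    exact step k p hF hL hn hM ih

end K752.StrongT

namespace K752.StrongT

open StabCat

/-- **S18559 from the statement on families.** -/
theorem main (p : ℕ) [Fact p.Prime] (k : Type u) [Field k] [IsAlgClosed k] [CharP k p]
    (X : Scheme.{u}) [X.Over (Spec (CommRingCat.of k))] [IsProper (X ↘ Spec (CommRingCat.of k))]
    [IsIntegral X] [FrobSch.IsCharP X p]
    (hF : ∀ [IsNoetherian X] [K849.CstDeg.RegOne X] [CharP X.functionField p], K991.FamT.StmtF X p)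
    (d : ℕ) (hd : 1 ≤ d)
    [SmoothOfRelativeDimension d (X ↘ Spec (CommRingCat.of k))]
    (L : X.Modules) (hL : CohB1.IsAmple L)
    (P0 : ℚ[X]) (hP0 : ShStab.IsHilbPoly k X L (Coh.structureModule X) P0)
    (r : ℕ) (hr : 2 ≤ r)
    (hΩ : ∀ (F : X.Modules) (ι : F ⟶ Omega.sheaf (X ↘ Spec (CommRingCat.of k))) (PF : ℚ[X]) (a b : ℕ),
      Mono ι → Coh.IsCoh F → ShStab.IsHilbPoly k X L F PF → 0 < StabCat.alpha d PF →
        1 ≤ a → 1 ≤ b → a + b ≤ r →
          (Nat.lcm a b : ℚ) * (StabCat.alpha d P0 * (StabCat.hatSlope d PF - StabCat.hatSlope d P0)) < 1)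
    (H : X.Modules) (PH : ℚ[X]) (hPH : ShStab.IsHilbPoly k X L H PH)
    (hH : ShStab.IsSemistable k X L H d) (hrk : StabCat.alpha d PH = (r : ℚ) * StabCat.alpha d P0)
    (n : ℕ) (hn : 1 ≤ n) :
    ShStab.IsMuSemistable k X L (((Scheme.Modules.pullback (FrobSch.frob X p)).obj)^[n] H) d := by
  have _ := hn
  have hsm : Smooth (X ↘ Spec (CommRingCat.of k)) := SmoothOfRelativeDimension.smooth d _
  have hn : topologicalKrullDim X = d := K658.RelDimComp.topologicalKrullDim_eq d (X ↘ Spec (CommRingCat.of k))
  have hN := Groth.Agent.Fga.SnapperTwist.isNoetherian_of_proper k X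
  have hreg := K849.FrobPull.regOne_of_smooth (X ↘ Spec (CommRingCat.of k))
  have hcp := K752.Glue.charP_functionField (X := X) p
  have h0 := SG_of_isSemistable k hL hn (r := r) (by omega) hP0 hPH hH hrk
  refine isMuSemistable_of_SG k hL hn hd (r := r) (by omega) (strong k p hF hL hn (fun a b ha hb hab U hU => ?_) h0 n)
  have hl : (0 : ℚ) < (Nat.lcm a b : ℚ) := by exact_mod_cast Nat.pos_of_ne_zero (Nat.lcm_ne_zero (by omega) (by omega))
  have h1 := K752.Glue.bound_Om k hL hn (1 / (Nat.lcm a b : ℚ)) hP0 (fun F ι PF h1 h2 h3 h4 => by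
    rw [lt_div_iff₀ hl, mul_comm]
    exact hΩ F ι PF a b h1 h2 h3 h4 ha hb hab) U hU
  rw [div_mul_eq_mul_div, one_mul, lt_div_iff₀ hl, mul_comm] at h1
  exact h1

end K752.StrongT
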