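import Groth.Agent.ShStab.K752.FamPair
import Mathlib.LinearAlgebra.Dual.Basis

/-!
# Families of lattices: the dual family, integrality and boundedness of degrees
-/

set_option autoImplicit false
universe u
open CategoryTheory CategoryTheory.Limits AlgebraicGeometry Opposite TopologicalSpace Module

namespace K752.FamDual

open K849.DvrLat K849.CstTor K849.CstDeg K849.Fam K752.FamPair

variable {X : Scheme.{u}} [IsIntegral X]

attribute [local instance 50] modAt

variable {V : Type u} [AddCommGroup V] [Module (X.presheaf.stalk (genericPoint X)) V]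
  {ι : Type} [Fintype ι] [DecidableEq ι] {κ : Type} [Fintype κ] [DecidableEq κ]

variable (X V) in
/-- The dual space, with its structure over the function field only. -/
def Dl : Type u := V →ₗ[X.functionField] X.functionField

noncomputable instance : AddCommGroup (Dl X V) := inferInstanceAs (AddCommGroup (V →ₗ[X.functionField] X.functionField))

noncomputable instance : Module (X.presheaf.stalk (genericPoint X)) (Dl X V) :=
  inferInstanceAs (Module X.functionField (V →ₗ[X.functionField] X.functionField))

/-- The underlying functional. -/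
def Dl.fn (q : Dl X V) : V →ₗ[X.functionField] X.functionField := q

/-- The underlying functional, linearly. -/
noncomputable def fnL : Dl X V ≃ₗ[X.functionField] (V →ₗ[X.functionField] X.functionField) :=
  LinearEquiv.refl _ _

theorem Dl.ext {q q' : Dl X V} (h : ∀ v, q.fn v = q'.fn v) : q = q' := LinearMap.ext h

/-- The dual basis. -/
noncomputable def db (b : Basis ι X.functionField V) : Basis ι X.functionField (Dl X V) := b.dualBasis

theorem db_repr (b : Basis ι X.functionField V) (q : Dl X V) (i : ι) : (db b).repr q i = q.fn (b i) :=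
  b.dualBasis_repr q i

theorem db_apply (b : Basis ι X.functionField V) (i : ι) (v : V) : (db b i).fn v = b.repr v i :=
  b.dualBasis_apply i v

/-- The dual family. -/
noncomputable def dual (Λ : LFam X V) : LFam X (Dl X V) := fun y =>
  { carrier := {q | ∀ v ∈ Λ y, ∃ r : X.presheaf.stalk y.1, algebraMap _ X.functionField r = q.fn v}
    add_mem' := fun {a b} ha hb v hv => by
      obtain ⟨r, hr⟩ := ha v hv
      obtain ⟨s, hs⟩ := hb v hv
      exact ⟨r + s, by rw [map_add, hr, hs]; rfl⟩
    zero_mem' := fun v _ => ⟨0, by rw [map_zero]; rfl⟩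
    smul_mem' := fun r q hq v hv => by
      obtain ⟨s, hs⟩ := hq v hv
      exact ⟨r * s, by rw [map_mul, hs]; rfl⟩ }

theorem mem_dual {Λ : LFam X V} {y : C1 X} {q : Dl X V} :
    q ∈ dual Λ y ↔ ∀ v ∈ Λ y, ∃ r : X.presheaf.stalk y.1, algebraMap _ X.functionField r = q.fn v := Iff.rfl

theorem dual_sp [RegOne X] {Λ : LFam X V} {y : C1 X} {c : Basis ι X.functionField V}
    (h : Λ y = sp (X.presheaf.stalk y.1) c) : dual Λ y = sp (X.presheaf.stalk y.1) (db c) := by
  ext q
  rw [mem_dual, mem_sp]
  constructor
  · intro hq i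
    rw [db_repr]
    refine hq _ ?_
    rw [h]
    exact Submodule.subset_span ⟨i, rfl⟩
  · intro hq v hv
    rw [h, mem_sp_iff] at hv
    obtain ⟨f, rfl⟩ := hv
    choose r hr using hq
    refine ⟨∑ i, f i * r i, ?_⟩
    rw [map_sum, map_sum]
    refine Finset.sum_congr rfl fun i _ => ?_
    rw [map_mul, hr, db_repr, ← algebraMap_smul X.functionField (f i) (c i), map_smul, smul_eq_mul]

theorem det_db (b c : Basis ι X.functionField V) : (db b).det (db c) = c.det b := by
  rw [Basis.det_apply, Basis.det_apply, ← Matrix.det_transpose]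
  congr 1
  ext i j
  rw [Matrix.transpose_apply, Basis.toMatrix_apply, Basis.toMatrix_apply, db_repr, db_apply]

variable [RegOne X]

theorem _root_.K849.Fam.IsFam.dual [IsNoetherian X] {Λ : LFam X V} (h : IsFam Λ) (b : Basis ι X.functionField V) :
    IsFam (FamDual.dual Λ) := by
  refine IsFam.of_basis (fun y => ?_) (db b) ?_
  · obtain ⟨c, hc⟩ := (h.lat y).exists_basis _ b
    rw [dual_sp hc]
    exact isLat_sp (X.presheaf.stalk y.1) X.functionField _
  · refine (h.fin' b).subset fun y hy h0 => hy ?_
    exact dual_sp h0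

/-- **The degree of the dual family.** -/
theorem Deg_dual [IsNoetherian X] {δ : C1 X → ℚ} (hδ : IsPrin δ) {Λ : LFam X V} (h : IsFam Λ)
    (b : Basis ι X.functionField V) : Deg δ (dual Λ) = - Deg δ Λ := by
  rw [Deg_eq hδ (h.dual b) (db b), Deg_eq hδ h b, degB, degB, ← finsum_neg_distrib]
  refine finsum_congr fun y => ?_
  obtain ⟨c, hc⟩ := (h.lat y).exists_basis _ b
  rw [dual_sp hc, hc, idx_sp, idx_sp, det_db]
  have h1 := ordK_det_add (X.presheaf.stalk y.1) b c b
  rw [Basis.det_self, ordK_one] at h1
  have h2 : ordK (X.presheaf.stalk y.1) (c.det b) = - ordK (X.presheaf.stalk y.1) (b.det c) := by omega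
  rw [h2]
  push_cast
  ring

/-- Integrality of degrees. -/
theorem Deg_int [IsNoetherian X] {δ : C1 X → ℚ} (hδ : IsPrin δ) (hi : ∀ y, ∃ n : ℤ, δ y = n) {Λ : LFam X V}
    (h : IsFam Λ) (b : Basis ι X.functionField V) : ∃ n : ℤ, Deg δ Λ = n := by
  choose n hn using hi
  rw [Deg_eq hδ h b, degB, finsum_eq_sum _ (supp_fin h δ b)]
  refine ⟨∑ y ∈ (supp_fin h δ b).toFinset, idx (X.presheaf.stalk y.1) b (Λ y) * n y, ?_⟩
  push_cast
  exact Finset.sum_congr rfl fun y _ => by rw [hn]

/-- Boundedness of the degrees of the subspaces. -/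
theorem Deg_bdd [IsNoetherian X] {δ : C1 X → ℚ} (hδ : IsPrin δ) (h0 : ∀ y, 0 ≤ δ y) {Λ : LFam X V}
    (h : IsFam Λ) (b : Basis ι X.functionField V) :
    ∃ N : ℚ, ∀ W : Submodule X.functionField V, Deg δ (sub Λ W) ≤ N := by
  classical
  have hfin : Module.Finite X.functionField V := Module.Finite.of_basis b
  let C : Finset ι → Submodule X.functionField V := fun J => Submodule.span _ (b '' (J : Set ι))
  refine ⟨(Finset.univ : Finset (Finset ι)).sup' ⟨∅, Finset.mem_univ _⟩ fun J => Deg δ (quo Λ (C J)), fun W => ?_⟩
  obtain ⟨κ, a, ha, hspan, hli⟩ := exists_linearIndependent' X.functionField (W.mkQ ∘ b)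
  have : Fintype κ := Fintype.ofInjective a ha
  let J : Finset ι := Finset.univ.image a
  refine le_trans ?_ (Finset.le_sup' (fun J => Deg δ (quo Λ (C J))) (Finset.mem_univ J))
  have hC : C J = Submodule.span _ (Set.range (b ∘ a)) := by
    change Submodule.span _ (b '' ((Finset.univ.image a : Finset ι) : Set ι)) = _
    rw [Finset.coe_image, Finset.coe_univ, Set.image_univ, ← Set.range_comp]
  have htop : ⊤ ≤ Submodule.span X.functionField (Set.range ((W.mkQ ∘ b) ∘ a)) := by
    rw [hspan, Set.range_comp, ← Submodule.map_span, b.span_eq, Submodule.map_top, W.range_mkQ]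
  have hcompl : IsCompl W (C J) := by
    constructor
    · rw [Submodule.disjoint_def]
      intro x hx hxJ
      rw [hC, Submodule.mem_span_range_iff_exists_fun] at hxJ
      obtain ⟨g, rfl⟩ := hxJ
      have h1 : ∑ i, g i • ((W.mkQ ∘ b) ∘ a) i = 0 := by
        have h2 : W.mkQ (∑ i, g i • (b ∘ a) i) = 0 := by
          rw [W.mkQ_apply, Submodule.Quotient.mk_eq_zero]
          exact hx
        rw [map_sum] at h2
        rw [← h2]
        exact Finset.sum_congr rfl fun i _ => by rw [map_smul]; rfl
      have h3 := Fintype.linearIndependent_iff.1 hli g h1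
      simp [h3]
    · rw [codisjoint_iff, eq_top_iff]
      rintro x -
      have h1 : W.mkQ x ∈ Submodule.map W.mkQ (C J) := by
        rw [hC, Submodule.map_span, ← Set.range_comp]
        exact htop trivial
      obtain ⟨z, hz, hzx⟩ := h1
      have h2 : x - z ∈ W := by
        rw [← W.ker_mkQ, LinearMap.mem_ker, map_sub, hzx, sub_self]
      have h3 : x = (x - z) + z := by abel
      rw [h3]
      exact Submodule.add_mem_sup h2 hz
  let e : W ≃ₗ[X.functionField] (V ⧸ C J) := (Submodule.quotientEquivOfIsCompl (C J) W hcompl.symm).symm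
  have he : ∀ w : W, e w = (C J).mkQ w := fun w => by
    change (Submodule.quotientEquivOfIsCompl (C J) W hcompl.symm).symm w = _
    rw [LinearEquiv.symm_apply_eq]
    exact (Submodule.quotientEquivOfIsCompl_apply_mk_right hcompl.symm w).symm
  refine Deg_le_of_equiv hδ h0 (h.sub W (Module.finBasis X.functionField W) (Module.finBasis X.functionField (V ⧸ W)))
    (h.quo (C J) (Module.finBasis X.functionField (C J)) (Module.finBasis X.functionField (V ⧸ C J))) e
    (Module.finBasis X.functionField W) fun y w hw => ?_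
  rw [he]
  exact ⟨w, hw, rfl⟩

end K752.FamDual
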