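import Groth.Agent.ShStab.K752.FamPair

/-!
# Families of lattices: the Frobenius twist
-/

set_option autoImplicit false
universe u
open CategoryTheory CategoryTheory.Limits AlgebraicGeometry Opposite TopologicalSpace Module

namespace K752.FamFrob

open K849.DvrLat K849.CstTor K849.CstDeg K849.Fam K752.Semi K752.FamPair

variable {X : Scheme.{u}} [IsIntegral X] [RegOne X]

attribute [local instance 50] modAt

variable {V : Type u} [AddCommGroup V] [Module (X.presheaf.stalk (genericPoint X)) V]
  {V' : Type u} [AddCommGroup V'] [Module (X.presheaf.stalk (genericPoint X)) V']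
  {M : Type u} [AddCommGroup M] [Module (X.presheaf.stalk (genericPoint X)) M]
  {ι : Type} [Fintype ι] [DecidableEq ι] {κ : Type} [Fintype κ] [DecidableEq κ] {p : ℕ}

/-- The Frobenius twist of a family of lattices. -/
noncomputable def tw (T : Tw p X.functionField V V') (Λ : LFam X V) : LFam X V' :=
  fun y => Submodule.span (X.presheaf.stalk y.1) (T.ψ '' (Λ y : Set V))

omit [RegOne X] [DecidableEq ι] in
theorem ψ_smul_at (T : Tw p X.functionField V V') (y : C1 X) (r : X.presheaf.stalk y.1) (v : V) :
    T.ψ (r • v) = r ^ p • T.ψ v := by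
  rw [← algebraMap_smul X.functionField r v, T.smul, ← map_pow, algebraMap_smul]

theorem tw_sp (T : Tw p X.functionField V V') {Λ : LFam X V} {y : C1 X} {c : Basis ι X.functionField V}
    (h : Λ y = sp (X.presheaf.stalk y.1) c) : tw T Λ y = sp (X.presheaf.stalk y.1) (T.tb c) := by
  refine le_antisymm (Submodule.span_le.2 ?_) (Submodule.span_le.2 ?_)
  · rintro _ ⟨v, hv, rfl⟩
    rw [h, SetLike.mem_coe, mem_sp_iff] at hv
    obtain ⟨f, rfl⟩ := hv
    rw [map_sum]
    refine Submodule.sum_mem _ fun i _ => ?_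
    rw [ψ_smul_at]
    exact Submodule.smul_mem _ _ (Submodule.subset_span ⟨i, T.tb_apply c i⟩)
  · rintro _ ⟨i, rfl⟩
    refine Submodule.subset_span ⟨c i, ?_, (T.tb_apply c i).symm⟩
    rw [h]
    exact Submodule.subset_span ⟨i, rfl⟩

theorem _root_.K849.Fam.IsFam.tw [IsNoetherian X] {Λ : LFam X V} (h : IsFam Λ) (T : Tw p X.functionField V V')
    (b : Basis ι X.functionField V) : IsFam (FamFrob.tw T Λ) := by
  refine IsFam.of_basis (fun y => ?_) (T.tb b) ?_
  · obtain ⟨c, hc⟩ := (h.lat y).exists_basis _ b
    rw [tw_sp T hc]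
    exact isLat_sp (X.presheaf.stalk y.1) X.functionField _
  · refine (h.fin' b).subset fun y hy h0 => hy ?_
    exact tw_sp T h0

/-- **The degree of the Frobenius twist.** -/
theorem Deg_tw [IsNoetherian X] [Fact p.Prime] [CharP X.functionField p] {δ : C1 X → ℚ} (hδ : IsPrin δ) {Λ : LFam X V}
    (h : IsFam Λ) (T : Tw p X.functionField V V') (b : Basis ι X.functionField V) :
    Deg δ (tw T Λ) = p * Deg δ Λ := by
  rw [Deg_eq hδ (h.tw T b) (T.tb b), Deg_eq hδ h b, degB, degB, mul_finsum]
  refine finsum_congr fun y => ?_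
  obtain ⟨c, hc⟩ := (h.lat y).exists_basis _ b
  rw [tw_sp T hc, hc, idx_sp, idx_sp, T.det_tb, ordK_pow _ (det_ne_zero b c)]
  push_cast
  ring

omit [RegOne X] in
theorem quo_tw [Fact p.Prime] [CharP X.functionField p] [Module.Finite X.functionField V]
    (T : Tw p X.functionField V V') (Λ : LFam X V) (W : Submodule X.functionField V) :
    quo (tw T Λ) (T.post W) = tw (T.quot W) (quo Λ W) := by
  funext y
  change (Submodule.span (X.presheaf.stalk y.1) (T.ψ '' (Λ y : Set V))).map
    ((T.post W).mkQ.restrictScalars (X.presheaf.stalk y.1)) =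
      Submodule.span (X.presheaf.stalk y.1) ((T.quot W).ψ ''
        (((Λ y).map (W.mkQ.restrictScalars (X.presheaf.stalk y.1)) : Submodule _ _) : Set (V ⧸ W)))
  rw [Submodule.map_span, Submodule.map_coe, Set.image_image, Set.image_image]
  rfl

theorem Deg_sub_post [IsNoetherian X] [Fact p.Prime] [CharP X.functionField p] {δ : C1 X → ℚ} (hδ : IsPrin δ)
    {Λ : LFam X V} (h : IsFam Λ) (T : Tw p X.functionField V V') (b : Basis ι X.functionField V)
    (W : Submodule X.functionField V) : Deg δ (sub (tw T Λ) (T.post W)) = p * Deg δ (sub Λ W) := by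
  have hfin : Module.Finite X.functionField V := Module.Finite.of_basis b
  have hfin' : Module.Finite X.functionField V' := Module.Finite.of_basis (T.tb b)
  have h1 := Deg_exact hδ h W (Module.finBasis X.functionField W) (Module.finBasis X.functionField (V ⧸ W))
  have h2 := Deg_exact hδ (h.tw T b) (T.post W) (Module.finBasis X.functionField (T.post W))
    (Module.finBasis X.functionField (V' ⧸ T.post W))
  have h3 := Deg_tw hδ h T b
  have h4 := Deg_tw hδ (h.quo W (Module.finBasis X.functionField W) (Module.finBasis X.functionField (V ⧸ W))) (T.quot W)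
    (Module.finBasis X.functionField (V ⧸ W))
  rw [quo_tw, h4, h3, h1] at h2
  linarith

/-- **Integrality of the second fundamental form.** -/
theorem theta_mem [CharP X.functionField p] {Λ : LFam X V} (h : IsFam Λ) (T : Tw p X.functionField V V')
    (b : Basis ι X.functionField V) (d : Derivation ℤ X.functionField M) {ΛM : LFam X M}
    (hd : ∀ (y : C1 X) (r : X.presheaf.stalk y.1), d (algebraMap _ X.functionField r) ∈ ΛM y) (y : C1 X) (w : V')
    (hw : w ∈ tw T Λ y) (q : V' →ₗ[X.functionField] X.functionField)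
    (hq : ∀ v ∈ tw T Λ y, ∃ r : X.presheaf.stalk y.1, algebraMap _ X.functionField r = q v) :
    theta d (T.tb b) w q ∈ ΛM y := by
  obtain ⟨c, hc⟩ := (h.lat y).exists_basis _ b
  rw [theta_indep T d b c]
  have hw' := hw
  rw [tw_sp T hc, mem_sp] at hw'
  refine Submodule.sum_mem _ fun i _ => ?_
  obtain ⟨r, hr⟩ := hw' i
  obtain ⟨s, hs⟩ := hq (T.tb c i) (by
    rw [tw_sp T hc]
    exact Submodule.subset_span ⟨i, rfl⟩)
  rw [← hr, ← hs, algebraMap_smul]
  exact Submodule.smul_mem _ _ (hd y r)

end K752.FamFrob
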