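import Groth.Agent.ShStab.K752.Semi
import Mathlib.LinearAlgebra.Quotient.Basic
import Mathlib.LinearAlgebra.FiniteDimensional.Basic

/-!
# Frobenius twists: determinants, quotients
-/

set_option autoImplicit false

open Module

namespace K752.Semi

variable {K : Type*} [Field K] {V V' M : Type*} [AddCommGroup V] [Module K V] [AddCommGroup V'] [Module K V']
  [AddCommGroup M] [Module K M]

variable {p : ℕ} {ι κ : Type} [Fintype ι] [Fintype κ]

/-- The quotient basis. -/
theorem exists_quotBasis {W : Submodule K V'} (B : Basis (ι ⊕ κ) K V') (h : W = Submodule.span K (Set.range (B ∘ Sum.inl))) :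
    ∃ b : Basis κ K (V' ⧸ W), ∀ j, b j = W.mkQ (B (Sum.inr j)) := by
  classical
  have h0 : ∀ j, W ≤ LinearMap.ker (B.coord (Sum.inr j)) := by
    intro j
    rw [h, Submodule.span_le]
    rintro _ ⟨i, rfl⟩
    change B.coord (Sum.inr j) (B (Sum.inl i)) = 0
    rw [Basis.coord_apply, B.repr_self, Finsupp.single_apply, if_neg (by simp)]
  have hli : LinearIndependent K (fun j => W.mkQ (B (Sum.inr j))) := by
    rw [Fintype.linearIndependent_iff]
    intro g hg j
    have h1 := congrArg (W.liftQ (B.coord (Sum.inr j)) (h0 j)) hg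
    rw [map_sum, map_zero] at h1
    rw [Finset.sum_eq_single j] at h1
    · rw [map_smul, W.mkQ_apply, W.liftQ_apply, Basis.coord_apply, B.repr_self] at h1
      simpa using h1
    · intro j' _ hj'
      rw [map_smul, W.mkQ_apply, W.liftQ_apply, Basis.coord_apply, B.repr_self, Finsupp.single_apply,
        if_neg (by simpa using hj'), smul_zero]
    · intro hj
      exact absurd (Finset.mem_univ _) hj
  have htop : ⊤ ≤ Submodule.span K (Set.range fun j => W.mkQ (B (Sum.inr j))) := by
    rintro x -
    obtain ⟨v, rfl⟩ := W.mkQ_surjective x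
    rw [← B.sum_repr v, map_sum]
    refine Submodule.sum_mem _ fun i _ => ?_
    rw [map_smul]
    refine Submodule.smul_mem _ _ ?_
    rcases i with i | j
    · have : W.mkQ (B (Sum.inl i)) = 0 := by
        rw [W.mkQ_apply, Submodule.Quotient.mk_eq_zero, h]
        exact Submodule.subset_span ⟨i, rfl⟩
      rw [this]
      exact Submodule.zero_mem _
    · exact Submodule.subset_span ⟨j, rfl⟩
  exact ⟨Basis.mk hli htop, fun j => by simp⟩

namespace Tw

variable (T : Tw p K V V')

theorem det_tb [Fact p.Prime] [CharP K p] [DecidableEq ι] (b c : Basis ι K V) :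
    (T.tb b).det (T.tb c) = (b.det c) ^ p := by
  rw [Basis.det_apply, Basis.det_apply]
  have h1 : (T.tb b).toMatrix (T.tb c) = (frobenius K p).mapMatrix (b.toMatrix c) := by
    ext i j
    rw [RingHom.mapMatrix_apply, Matrix.map_apply, Basis.toMatrix_apply, Basis.toMatrix_apply, T.tb_apply c, T.repr_ψ,
      frobenius_def]
  rw [h1, ← RingHom.map_det, frobenius_def]

/-- The twist map as a semilinear map. -/
def sl [Fact p.Prime] [CharP K p] : V →ₛₗ[frobenius K p] V' where
  toFun := T.ψ
  map_add' := map_add T.ψ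
  map_smul' a v := by rw [T.smul, frobenius_def]

omit [Fintype ι] in
theorem post_eq [Finite ι] (W : Submodule K V) (b : Basis ι K W) :
    T.post W = Submodule.span K (Set.range fun i => T.ψ (b i)) := by
  have := Fintype.ofFinite ι
  refine le_antisymm (Submodule.span_le.2 ?_) (Submodule.span_mono ?_)
  · rintro _ ⟨v, hv, rfl⟩
    have h1 : v = ∑ i, b.repr ⟨v, hv⟩ i • (b i : V) := by
      have := congrArg Subtype.val (b.sum_repr ⟨v, hv⟩)
      rw [Submodule.coe_sum] at this
      exact this.symm
    rw [h1, map_sum]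
    refine Submodule.sum_mem _ fun i _ => ?_
    rw [T.smul]
    exact Submodule.smul_mem _ _ (Submodule.subset_span ⟨i, rfl⟩)
  · rintro _ ⟨i, rfl⟩
    exact ⟨b i, (b i).2, rfl⟩

/-- The twist of a quotient space. -/
noncomputable def quot [Fact p.Prime] [CharP K p] [Module.Finite K V] (W : Submodule K V) :
    Tw p K (V ⧸ W) (V' ⧸ T.post W) where
  ψ := (Submodule.mapQ W (T.post W) T.sl (fun v hv => Submodule.subset_span ⟨v, hv, rfl⟩)).toAddMonoidHom
  smul a v := by
    have h := map_smulₛₗ (Submodule.mapQ W (T.post W) T.sl (fun v hv => Submodule.subset_span ⟨v, hv, rfl⟩)) a v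
    rw [frobenius_def] at h
    exact h
  basis r b := by
    let b0 := Module.finBasis K W
    let B := b0.sumQuot b
    obtain ⟨b', hb'⟩ := exists_quotBasis (W := T.post W) (T.tb B) (by
      rw [T.post_eq W b0]
      congr 1
      ext x
      simp only [Set.mem_range, Function.comp_apply, T.tb_apply]
      refine exists_congr fun i => ?_
      rw [show B (Sum.inl i) = (b0 i : V) from b0.sumQuot_inl b i])
    refine ⟨b', fun j => ?_⟩
    rw [hb', T.tb_apply, ← b0.sumQuot_inr b j]
    rfl

theorem quot_ψ [Fact p.Prime] [CharP K p] [Module.Finite K V] (W : Submodule K V) (v : V) :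
    (T.quot W).ψ (W.mkQ v) = (T.post W).mkQ (T.ψ v) := rfl

end Tw

end K752.Semi
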