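import Groth.Agent.ShStab.K849.CstFam
import Groth.Agent.ShStab.K752.Semi2

/-!
# Families of lattices: comparison and the pairing with a line
-/

set_option autoImplicit false
universe u
open CategoryTheory CategoryTheory.Limits AlgebraicGeometry Opposite TopologicalSpace Module

namespace K752.FamPair

open K849.DvrLat K849.CstTor K849.CstDeg K849.Fam

variable {X : Scheme.{u}} [IsIntegral X] [RegOne X]

attribute [local instance 50] modAt

variable {V : Type u} [AddCommGroup V] [Module (X.presheaf.stalk (genericPoint X)) V]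
  {V' : Type u} [AddCommGroup V'] [Module (X.presheaf.stalk (genericPoint X)) V']
  {A : Type u} [AddCommGroup A] [Module (X.presheaf.stalk (genericPoint X)) A]
  {B : Type u} [AddCommGroup B] [Module (X.presheaf.stalk (genericPoint X)) B]
  {M : Type u} [AddCommGroup M] [Module (X.presheaf.stalk (genericPoint X)) M]
  {ι : Type} [Fintype ι] [DecidableEq ι] {κ : Type} [Fintype κ] [DecidableEq κ]

theorem Deg_le_of_equiv [IsNoetherian X] {δ : C1 X → ℚ} (hδ : IsPrin δ) (h0 : ∀ y, 0 ≤ δ y) {Λ : LFam X V}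
    {Λ' : LFam X V'} (h : IsFam Λ) (h' : IsFam Λ') (e : V ≃ₗ[X.presheaf.stalk (genericPoint X)] V')
    (b : Basis ι X.functionField V) (hle : ∀ y, ∀ v ∈ Λ y, e v ∈ Λ' y) : Deg δ Λ ≤ Deg δ Λ' := by
  rw [← Deg_mapE hδ h e b]
  refine Deg_mono h0 (h.mapE e b) h' fun y => ?_
  rintro _ ⟨v, hv, rfl⟩
  exact hle y v hv

/-- The degree of the family on a zero space. -/
theorem Deg_zero [IsNoetherian X] {δ : C1 X → ℚ} (hδ : IsPrin δ) {Λ : LFam X V} (h : IsFam Λ) [Subsingleton V] :
    Deg δ Λ = 0 := by
  let b : Basis (Fin 0) X.functionField V := Basis.empty V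
  rw [Deg_eq hδ h b, degB]
  refine (finsum_congr (g := fun _ => (0 : ℚ)) fun y => ?_).trans finsum_zero
  have h1 : Λ y = sp (X.presheaf.stalk y.1) b := by
    ext v
    rw [Subsingleton.elim v 0]
    simp
  rw [h1, idx_self, Int.cast_zero, zero_mul]

/-- **The pairing with a line.** -/
theorem Deg_pair [IsNoetherian X] {δ : C1 X → ℚ} (hδ : IsPrin δ) (h0 : ∀ y, 0 ≤ δ y) {ΛA : LFam X A} {ΛB : LFam X B}
    {ΛM : LFam X M} (hA : IsFam ΛA) (hB : IsFam ΛB) (hM : IsFam ΛM) [Module.Finite (X.functionField) A]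
    [Module.Finite X.functionField M]
    (b0 : Basis (Fin 1) X.functionField B) (β : A →ₗ[X.presheaf.stalk (genericPoint X)] M)
    (h : ∀ y, ∀ a ∈ ΛA y, ∀ t : X.functionField, t • b0 0 ∈ ΛB y → t • β a ∈ ΛM y) :
    Deg δ (quo ΛA (LinearMap.ker β)) + Module.finrank X.functionField (LinearMap.range β) * Deg δ ΛB ≤
      Deg δ (sub ΛM (LinearMap.range β)) := by
  let N := LinearMap.ker β
  let U := LinearMap.range β
  let e : (A ⧸ N) ≃ₗ[X.presheaf.stalk (genericPoint X)] U := β.quotKerEquivRange
  let bN := Module.finBasis X.functionField N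
  let bU := Module.finBasis X.functionField U
  let bQ : Basis (Fin (Module.finrank X.functionField U)) X.functionField (A ⧸ N) := bU.map e.symm
  let bMU := Module.finBasis X.functionField (M ⧸ U)
  have hQ : IsFam (quo ΛA N) := hA.quo N bN bQ
  have hU : IsFam (sub ΛM U) := hM.sub U bU bMU
  rw [Deg_eq hδ hQ bQ, Deg_eq hδ hB b0, Deg_eq hδ hU bU, degB, degB, degB, mul_finsum,
    ← finsum_add_distrib (supp_fin hQ δ bQ) (by
      refine (supp_fin hB δ b0).subset fun y hy h0 => hy ?_
      dsimp only at h0 ⊢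
      rw [h0, mul_zero])]
  refine finsum_le_finsum' ?_ (supp_fin hU δ bU) fun y => ?_
  · refine ((supp_fin hQ δ bQ).union (supp_fin hB δ b0)).subset fun y hy => ?_
    by_contra hc
    rw [Set.mem_union, not_or, Function.notMem_support, Function.notMem_support] at hc
    refine hy ?_
    dsimp only
    rw [hc.1, hc.2, mul_zero, add_zero]
  · rw [← mul_assoc, ← add_mul]
    refine mul_le_mul_of_nonneg_right ?_ (h0 y)
    obtain ⟨c, hc⟩ := (hB.lat y).exists_basis _ b0
    let t : X.functionField := b0.repr (c 0) 0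
    have hc0 : c 0 = t • b0 0 := by
      conv_lhs => rw [← b0.sum_repr (c 0)]
      simp [t]
    have hdet : b0.det c = t := by
      rw [Basis.det_apply, Matrix.det_fin_one, Basis.toMatrix_apply]
    have ht : t ≠ 0 := hdet ▸ det_ne_zero b0 c
    have hidx : idx (X.presheaf.stalk y.1) b0 (ΛB y) = -ordK (X.presheaf.stalk y.1) t := by
      rw [hc, idx_sp, hdet]
    have htm : t • b0 0 ∈ ΛB y := by
      rw [← hc0, hc]
      exact Submodule.subset_span ⟨0, rfl⟩
    let Γ : Submodule (X.presheaf.stalk y.1) U := mapE (quo ΛA N) e y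
    have hΓ : IsLat (X.presheaf.stalk y.1) (K := X.functionField) Γ := (hQ.mapE e bQ).lat y
    have h1 : idx (X.presheaf.stalk y.1) bU Γ = idx (X.presheaf.stalk y.1) bQ (quo ΛA N y) := by
      have h2 := idx_map (X.presheaf.stalk y.1) e bQ (hQ.lat y)
      have h3 : bQ.map e = bU := by
        ext i
        simp [bQ]
      rw [h3] at h2
      exact h2
    have h4 := idx_scale (X.presheaf.stalk y.1) bU t ht hΓ
    have h5 : IsLat (X.presheaf.stalk y.1) (K := X.functionField)
        (Γ.map ((LinearMap.lsmul X.functionField U t).restrictScalars (X.presheaf.stalk y.1))) :=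
      hΓ.map (X.presheaf.stalk y.1) (LinearMap.lsmul X.functionField U t)
        (LinearEquiv.smulOfNeZero X.functionField U t ht).surjective
    have h6 : Γ.map ((LinearMap.lsmul X.functionField U t).restrictScalars (X.presheaf.stalk y.1)) ≤ sub ΛM U y := by
      rintro _ ⟨_, ⟨_, ⟨a, ha, rfl⟩, rfl⟩, rfl⟩
      exact h y a ha t htm
    have h7 := idx_mono (b := bU) _ h5 (hU.lat y) h6
    rw [h4, h1, Fintype.card_fin] at h7
    rw [hidx]
    refine le_trans (le_of_eq ?_) (Int.cast_le.2 h7)
    push_cast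
    ring

end K752.FamPair
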