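import Groth.Agent.ShStab.K752.FamFrob
import Groth.Agent.ShStab.K752.FamDual

/-!
# The second fundamental form of a subspace of a Frobenius twist and degrees
-/

set_option autoImplicit false
universe u
open CategoryTheory CategoryTheory.Limits AlgebraicGeometry Opposite TopologicalSpace Module

namespace K752.Fund

open K849.DvrLat K849.CstTor K849.CstDeg K849.Fam K752.Semi K752.FamPair K752.FamFrob K752.FamDual

variable {X : Scheme.{u}} [IsIntegral X]

attribute [local instance 50] modAt

variable {V : Type u} [AddCommGroup V] [Module (X.presheaf.stalk (genericPoint X)) V]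
  {V' : Type u} [AddCommGroup V'] [Module (X.presheaf.stalk (genericPoint X)) V']
  {M : Type u} [AddCommGroup M] [Module (X.presheaf.stalk (genericPoint X)) M]
  {ι : Type} [Fintype ι] {p : ℕ}

/-- The second fundamental form of `W` against a functional. -/
noncomputable def betaL (d : Derivation ℤ X.functionField M) (b : Basis ι X.functionField V')
    (W : Submodule X.functionField V') (q : V' →ₗ[X.functionField] X.functionField) (hq : ∀ w ∈ W, q w = 0) :
    W →ₗ[X.functionField] M where
  toFun w := theta d b w q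
  map_add' w w' := theta_add d b w w' q
  map_smul' a w := by
    change theta d b (a • (w : V')) q = a • theta d b w q
    rw [theta_smul, hq w w.2, zero_smul, add_zero]

/-- The second fundamental form of a vector. -/
noncomputable def betaR (d : Derivation ℤ X.functionField M) (b : Basis ι X.functionField V')
    (W : Submodule X.functionField V') (w : V') : Dl X (V' ⧸ W) →ₗ[X.functionField] M where
  toFun q := theta d b w (q.fn.comp W.mkQ)
  map_add' q q' := theta_add_right d b w (q.fn.comp W.mkQ) (q'.fn.comp W.mkQ)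
  map_smul' a q := theta_smul_right d b a w (q.fn.comp W.mkQ)

/-- The data: degrees, a Frobenius twist, a family, and a derivation. -/
structure Data [RegOne X] (δ : C1 X → ℚ) (Λ : LFam X V) (ΛM : LFam X M) (d : Derivation ℤ X.functionField M) (p : ℕ) : Prop where
  prin : IsPrin δ
  nonneg : ∀ y, 0 ≤ δ y
  int : ∀ y, ∃ n : ℤ, δ y = n
  fam : IsFam Λ
  famM : IsFam ΛM
  mem : ∀ (y : C1 X) (r : X.presheaf.stalk y.1), d (algebraMap _ X.functionField r) ∈ ΛM y
  ker : ∀ c, d c = 0 → ∃ a, a ^ p = c

variable [IsNoetherian X] [RegOne X] [DecidableEq ι] [Module.Finite X.functionField M]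
  {δ : C1 X → ℚ} {T : Tw p X.functionField V V'} {Λ : LFam X V} {ΛM : LFam X M} {d : Derivation ℤ X.functionField M}

/-- The functional attached to a basis of a quotient line. -/
noncomputable abbrev qf (P : Submodule X.functionField V') (bQ : Basis (Fin 1) X.functionField (V' ⧸ P)) :
    V' →ₗ[X.functionField] X.functionField := (db bQ 0).fn.comp P.mkQ

omit [AlgebraicGeometry.IsNoetherian X] [RegOne X] in
theorem qf_eq_zero (P : Submodule X.functionField V') (bQ : Basis (Fin 1) X.functionField (V' ⧸ P)) :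
    ∀ w ∈ P, qf P bQ w = 0 := fun w hw => by
  change (db bQ 0).fn (P.mkQ w) = 0
  rw [P.mkQ_apply, (Submodule.Quotient.mk_eq_zero P).2 hw, map_zero]

/-- The inequality for a hyperplane. -/
theorem ineq_hyper (D : Data δ Λ ΛM d p) [Fact p.Prime] [CharP X.functionField p] (b : Basis ι X.functionField V)
    (hΛ : Deg δ Λ = 0) (P : Submodule X.functionField V') (bQ : Basis (Fin 1) X.functionField (V' ⧸ P)) :
    let β := betaL d (T.tb b) P (qf P bQ) (qf_eq_zero P bQ)
    Deg δ (sub (tw T Λ) P) - Deg δ (sub (sub (tw T Λ) P) (LinearMap.ker β)) +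
      Module.finrank X.functionField (LinearMap.range β) * Deg δ (sub (tw T Λ) P) ≤
        Deg δ (sub ΛM (LinearMap.range β)) := by
  intro β
  have hfin' : Module.Finite X.functionField V' := Module.Finite.of_basis (T.tb b)
  let bP := Module.finBasis X.functionField P
  have hΛ' := D.fam.tw T b
  have hP := hΛ'.sub P bP bQ
  have hQ := hΛ'.quo P bP bQ
  have hD := hQ.dual bQ
  have h1 := Deg_exact D.prin hΛ' P bP bQ
  have h2 := Deg_tw D.prin D.fam T b
  have h3 := Deg_dual D.prin hQ bQ
  have h4 := Deg_exact D.prin hP (LinearMap.ker β) (Module.finBasis X.functionField (LinearMap.ker β))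
    (Module.finBasis X.functionField (P ⧸ LinearMap.ker β))
  have h5 := Deg_pair D.prin D.nonneg hP hD D.famM (db bQ) β (fun y a ha t ht => by
    change t • theta d (T.tb b) (a : V') (qf P bQ) ∈ ΛM y
    rw [← theta_smul_right]
    refine theta_mem D.fam T b d D.mem y a ha _ fun v hv => ?_
    exact ht (P.mkQ v) ⟨v, hv, rfl⟩)
  have h6 : Deg δ (dual (quo (tw T Λ) P)) = Deg δ (sub (tw T Λ) P) := by
    rw [h3]
    rw [h2, hΛ, mul_zero] at h1
    linarith
  rw [h6] at h5
  linarith

omit [AlgebraicGeometry.IsNoetherian X] [RegOne X] in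
theorem functional_eq (P : Submodule X.functionField V') (bQ : Basis (Fin 1) X.functionField (V' ⧸ P))
    (q : V' →ₗ[X.functionField] X.functionField) (hq : ∀ w ∈ P, q w = 0) :
    ∃ c : X.functionField, q = c • qf P bQ := by
  let q' : (V' ⧸ P) →ₗ[X.functionField] X.functionField := P.liftQ q hq
  refine ⟨q' (bQ 0), LinearMap.ext fun v => ?_⟩
  change q v = q' (bQ 0) * (db bQ 0).fn (P.mkQ v)
  rw [db_apply]
  have h1 : q v = q' (P.mkQ v) := rfl
  rw [h1]
  conv_lhs => rw [← bQ.sum_repr (P.mkQ v)]
  rw [Fin.sum_univ_one, map_smul, smul_eq_mul, mul_comm]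

omit [Module.Finite X.functionField M] in
/-- Descent of a hyperplane. -/
theorem descent_hyper (D : Data δ Λ ΛM d p) [Fact p.Prime] [CharP X.functionField p] (b : Basis ι X.functionField V)
    (P : Submodule X.functionField V') (bQ : Basis (Fin 1) X.functionField (V' ⧸ P))
    (h : LinearMap.range (betaL d (T.tb b) P (qf P bQ) (qf_eq_zero P bQ)) = ⊥) :
    Deg δ (sub (tw T Λ) P) = p * Deg δ (sub Λ (T.pre P)) := by
  have h1 := descent T d D.ker b P (fun w hw q hq => by
    obtain ⟨c, rfl⟩ := functional_eq P bQ q hq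
    rw [theta_smul_right]
    have h2 : betaL d (T.tb b) P (qf P bQ) (qf_eq_zero P bQ) ⟨w, hw⟩ = 0 := by
      rw [LinearMap.range_eq_bot.1 h]
      rfl
    change theta d (T.tb b) w (qf P bQ) = 0 at h2
    rw [h2, smul_zero])
  have h3 := Deg_sub_post D.prin D.fam T b (T.pre P)
  rwa [h1] at h3

/-- The inequality for a line. -/
theorem ineq_line (D : Data δ Λ ΛM d p) [Fact p.Prime] [CharP X.functionField p] (b : Basis ι X.functionField V)
    (hΛ : Deg δ Λ = 0) (ℓ : Submodule X.functionField V') (bL : Basis (Fin 1) X.functionField ℓ) :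
    let β := betaR d (T.tb b) ℓ (bL 0 : V')
    Deg δ (sub (tw T Λ) ℓ) - Deg δ (sub (dual (quo (tw T Λ) ℓ)) (LinearMap.ker β)) +
      Module.finrank X.functionField (LinearMap.range β) * Deg δ (sub (tw T Λ) ℓ) ≤
        Deg δ (sub ΛM (LinearMap.range β)) := by
  intro β
  have hfin' : Module.Finite X.functionField V' := Module.Finite.of_basis (T.tb b)
  let bQ := Module.finBasis X.functionField (V' ⧸ ℓ)
  have hfinD : Module.Finite X.functionField (Dl X (V' ⧸ ℓ)) := Module.Finite.of_basis (db bQ)
  have hΛ' := D.fam.tw T b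
  have hL := hΛ'.sub ℓ bL bQ
  have hQ := hΛ'.quo ℓ bL bQ
  have hD := hQ.dual bQ
  have h1 := Deg_exact D.prin hΛ' ℓ bL bQ
  have h2 := Deg_tw D.prin D.fam T b
  have h3 := Deg_dual D.prin hQ bQ
  have h4 := Deg_exact D.prin hD (LinearMap.ker β) (Module.finBasis X.functionField (LinearMap.ker β))
    (Module.finBasis X.functionField (Dl X (V' ⧸ ℓ) ⧸ LinearMap.ker β))
  have h5 := Deg_pair D.prin D.nonneg hD hL D.famM bL β (fun y a ha t ht => by
    change t • theta d (T.tb b) (bL 0 : V') (a.fn.comp ℓ.mkQ) ∈ ΛM y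
    have h6 : t • theta d (T.tb b) (bL 0 : V') (a.fn.comp ℓ.mkQ) =
        theta d (T.tb b) (t • (bL 0 : V')) (a.fn.comp ℓ.mkQ) := by
      rw [theta_smul]
      have h7 : (a.fn.comp ℓ.mkQ) (bL 0 : V') = 0 := by
        change a.fn (ℓ.mkQ (bL 0 : V')) = 0
        rw [ℓ.mkQ_apply, (Submodule.Quotient.mk_eq_zero ℓ).2 (bL 0).2, map_zero]
      rw [h7, zero_smul, add_zero]
    rw [h6]
    refine theta_mem D.fam T b d D.mem y _ ht _ fun v hv => ?_
    exact ha (ℓ.mkQ v) ⟨v, hv, rfl⟩)
  have h6 : Deg δ (dual (quo (tw T Λ) ℓ)) = Deg δ (sub (tw T Λ) ℓ) := by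
    rw [h3]
    rw [h2, hΛ, mul_zero] at h1
    linarith
  rw [h6] at h4
  linarith

omit [Module.Finite X.functionField M] in
/-- Descent of a line. -/
theorem descent_line (D : Data δ Λ ΛM d p) [Fact p.Prime] [CharP X.functionField p] (b : Basis ι X.functionField V)
    (ℓ : Submodule X.functionField V') (bL : Basis (Fin 1) X.functionField ℓ)
    (h : LinearMap.range (betaR d (T.tb b) ℓ (bL 0 : V')) = ⊥) :
    Deg δ (sub (tw T Λ) ℓ) = p * Deg δ (sub Λ (T.pre ℓ)) := by
  have h1 := descent T d D.ker b ℓ (fun w hw q hq => by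
    let q' : (V' ⧸ ℓ) →ₗ[X.functionField] X.functionField := ℓ.liftQ q hq
    have h2' : betaR d (T.tb b) ℓ (bL 0 : V') q' = 0 := by
      rw [LinearMap.range_eq_bot.1 h]
      rfl
    have e : q'.comp ℓ.mkQ = q := LinearMap.ext fun _ => rfl
    have h2 : theta d (T.tb b) (bL 0 : V') q = 0 :=
      (congrArg (theta d (T.tb b) (bL 0 : V')) e).symm.trans h2'
    have h3 : w = bL.repr ⟨w, hw⟩ 0 • (bL 0 : V') := by
      have h4 := congrArg Subtype.val (bL.sum_repr ⟨w, hw⟩)
      rw [Fin.sum_univ_one] at h4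
      exact h4.symm
    rw [h3, theta_smul, h2, smul_zero, hq _ (bL 0).2, zero_smul, add_zero])
  have h3 := Deg_sub_post D.prin D.fam T b (T.pre ℓ)
  rwa [h1] at h3

end K752.Fund
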