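import Groth.Agent.ShStab.K752.Ranks
import Groth.Agent.ShStab.K848.Stab

/-!
# Slope semistability through families of lattices
-/

set_option autoImplicit false
universe u
open CategoryTheory CategoryTheory.Limits AlgebraicGeometry Opposite TopologicalSpace Module Polynomial

namespace K752.Glue

open Groth.Agent Groth.Agent.CycB.StalkExact K848.Hull
open K849.DvrLat K849.CstTor K849.CstDeg K849.Fam K849.Cst K848.TF K848.Rank K848.HB K848.Dim K848.Poly K848.Stab StabCat
open K752.Ranks K752.FamDual

variable {X : Scheme.{u}} [IsIntegral X]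

attribute [local instance 50] modAt

/-- The family of lattices of a module. -/
noncomputable abbrev lf (G : X.Modules) : LFam X (G.presheaf.stalk (genericPoint X)) := fun y => lat G LinearMap.id y.1

variable (k : Type u) [Field k] [X.Over (Spec (CommRingCat.of k))] [IsProper (X ↘ Spec (CommRingCat.of k))]
  [IsNoetherian X] [RegOne X] {L : X.Modules} {n : ℕ}

omit [RegOne X] in
/-- The degrees of the points of codimension one are integers. -/
theorem dlt_int (hL : PicF.IsInvertible L) (hn : topologicalKrullDim X = n) (y : C1 X) :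
    ∃ z : ℤ, dlt k L n y = z := by
  have h1 : genericPoint X ∉ CohB1.support (gm y.1) := fun h => ne_gen y (by
    have h1 : y.1 ⤳ genericPoint X := by
      rw [specializes_iff_mem_closure]
      exact support_gm y.1 h
    exact (h1.antisymm (K848.TF.gen y.1)).eq)
  have h2 := le_pred_of_add_one_le (dim_support_le_pred hn (isCoh_gm y.1) h1)
  have h3 := natDegree_hp_le k hL (isCoh_gm y.1) h2
  have h4 := sum_choose_eq h3 0
  have h5 := isHilbPoly_hp k hL (isCoh_gm y.1)
  refine ⟨∑ j ∈ Finset.range (n - 1 + 1), ((-1 : ℤ) ^ (n - 1 - j) * (n - 1).choose j) *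
    Curv2.euler k X (ShStab.twist X L (gm y.1) j), ?_⟩
  rw [dlt, ← h4]
  push_cast
  refine Finset.sum_congr rfl fun j _ => ?_
  rw [h5 j, zero_add, zsmul_eq_mul]
  push_cast
  ring

theorem prin (hL : PicF.IsInvertible L) (hn : topologicalKrullDim X = n) : IsPrin (dlt k L n) :=
  isPrin_phi (adt_alpha k hL hn)

/-- The degree of a torsion-free module. -/
theorem alpha_eq (hL : PicF.IsInvertible L) (hn : topologicalKrullDim X = n) {G : X.Modules} (hG : Coh.IsCoh G)
    (t : TorSh.IsTorsionFree G) {V : Type u} [AddCommGroup V] [Module (X.presheaf.stalk (genericPoint X)) V]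
    (e : G.presheaf.stalk (genericPoint X) →ₗ[X.presheaf.stalk (genericPoint X)] V) (h : Function.Bijective e)
    [Module.Finite X.functionField V] :
    alpha (n - 1) (hp k L G) = finrank X.functionField V * alpha (n - 1) (hp k L (Coh.structureModule X)) +
      Deg (dlt k L n) (fun y : C1 X => lat G e y.1) := by
  have h1 := phi_eq_Deg (adt_alpha k hL hn) hG t e h (Module.finBasis X.functionField V)
  rw [Fintype.card_fin] at h1
  exact h1

omit [AlgebraicGeometry.IsNoetherian X] [RegOne X] in
theorem finite_gen {G : X.Modules} (hG : Coh.IsCoh G) :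
    Module.Finite X.functionField (G.presheaf.stalk (genericPoint X)) :=
  Groth.Agent.CycB.CohStalk.finite_stalk G hG (genericPoint X)

/-- The degree of a generic submodule. -/
theorem alpha_genSub (hL : PicF.IsInvertible L) (hn : topologicalKrullDim X = n) {G : X.Modules} (hG : Coh.IsCoh G)
    (t : TorSh.IsTorsionFree G) (W : Submodule (X.presheaf.stalk (genericPoint X)) (G.presheaf.stalk (genericPoint X))) :
    alpha (n - 1) (hp k L (genSub G W).toModules) =
      finrank X.functionField W * alpha (n - 1) (hp k L (Coh.structureModule X)) +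
        Deg (dlt k L n) (sub (lf G) W) := by
  have := finite_gen hG
  have h1 := alpha_eq k hL hn (isCoh_genSub W hG) (isTorsionFree_genSub W t) (subHom G W) (subHom_bijective G W)
  simp only [lat_genSub] at h1
  exact h1

omit [AlgebraicGeometry.IsNoetherian X] [RegOne X] in
theorem rk_genSub {G : X.Modules} (W : Submodule (X.presheaf.stalk (genericPoint X)) (G.presheaf.stalk (genericPoint X))) :
    rk (genSub G W).toModules = finrank X.functionField W :=
  (LinearEquiv.ofBijective (subHom G W) (subHom_bijective G W)).finrank_eq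

/-- Semistability of degree zero and rank `r` through the generic subspaces. -/
structure SS (L : X.Modules) (n r : ℕ) (G : X.Modules) : Prop where
  coh : Coh.IsCoh G
  tf : TorSh.IsTorsionFree G
  rk : rk G = r
  deg : Deg (dlt k L n) (lf G) = 0
  ss : ∀ W : Submodule X.functionField (G.presheaf.stalk (genericPoint X)), Deg (dlt k L n) (sub (lf G) W) ≤ 0

/-- Slope semistability from the generic subspaces. -/
theorem isMuSemistable_of_SS (hL : CohB1.IsAmple L) (hn : topologicalKrullDim X = n) (h1 : 1 ≤ n) {r : ℕ} (hr : r ≠ 0)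
    {G : X.Modules} (h : SS k L n r G) : ShStab.IsMuSemistable k X L G n := by
  have hrk : rk G ≠ 0 := by rw [h.rk]; exact hr
  have hdim := dim_support_eq hn h.coh hrk
  have h0 : ¬ IsZero G := fun hz => by
    have h2 : CohB1.support G = ∅ := Groth.Agent.CohqB.DevSupport.support_eq_empty_of_isZero hz
    have h3 := support_eq_univ h.coh hrk
    rw [h2] at h3
    exact (Set.empty_ne_univ (α := X)) h3
  refine ⟨h.coh, h0, hdim, fun F ι hι hF => ?_, fun F ι hι hF pF pG hpF hpG hpos hlt => ?_⟩
  · by_cases hz : IsZero F
    · have h2 : CohB1.support F = ∅ := Groth.Agent.CohqB.DevSupport.support_eq_empty_of_isZero hz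
      rw [h2]
      have h3 : topologicalKrullDim (∅ : Set X) = ⊥ := by
        have : IsEmpty (TopologicalSpace.IrreducibleCloseds (∅ : Set X)) :=
          ⟨fun s => s.isIrreducible.nonempty.elim fun x _ => x.2⟩
        exact Order.krullDim_eq_bot
      rw [h3]
      simp
    · rw [dim_support_eq hn hF (rk_ne_zero ι hF h.tf hz)]
      intro h2
      have h3 : (n : WithBot ℕ∞) + 1 = ((n + 1 : ℕ) : WithBot ℕ∞) := by push_cast; rfl
      rw [h3] at h2
      have h4 : n + 1 = n := by exact_mod_cast h2
      omega
  · obtain rfl := eq_hp k hpF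
    obtain rfl := eq_hp k hpG
    have hFt := isTorsionFree_of_mono ι h.tf
    let W : Submodule X.functionField (G.presheaf.stalk (genericPoint X)) := LinearMap.range (stalkLin ι (genericPoint X))
    have hfin := finite_gen h.coh
    let e : F.presheaf.stalk (genericPoint X) →ₗ[X.presheaf.stalk (genericPoint X)] W :=
      (stalkLin ι (genericPoint X)).rangeRestrict
    have he : Function.Bijective e := ⟨fun a b hab => stalkLin_injective ι _ (congrArg Subtype.val hab),
      LinearMap.surjective_rangeRestrict _⟩
    have h2 := alpha_eq k hL.1 hn hF hFt e he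
    have h3 : Deg (dlt k L n) (fun y : C1 X => lat F e y.1) ≤ Deg (dlt k L n) (sub (lf G) W) := by
      refine Deg_mono (fun y => (dlt_pos k hL hn y).le) (isFam_lat hF hFt e he)
        (fam_sub (isFam_lat h.coh h.tf LinearMap.id Function.bijective_id) W) fun y => ?_
      rintro _ ⟨m, rfl⟩
      refine ⟨stalkLin ι y.1 m, ?_⟩
      change G.presheaf.stalkSpecializes (K848.TF.gen y.1) (stalkLin ι y.1 m) =
        stalkLin ι _ (F.presheaf.stalkSpecializes (K848.TF.gen y.1) m)
      rw [stalkLin_spec]
    have h4 := h.ss W
    have h5 := alpha_eq k hL.1 hn h.coh h.tf LinearMap.id Function.bijective_id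
    rw [show Deg (dlt k L n) (fun y : C1 X => lat G LinearMap.id y.1) = 0 from h.deg, add_zero] at h5
    have h6 := alpha_rk k hL.1 hn hF
    have h7 := alpha_rk k hL.1 hn h.coh
    have h8 : finrank X.functionField W = rk F := (LinearEquiv.ofBijective e he).finrank_eq.symm
    have h9 : finrank X.functionField (G.presheaf.stalk (genericPoint X)) = rk G := rfl
    have h10 := alpha_O_pos k hL hn
    rw [h8] at h2
    rw [h9] at h5
    have hF0 : (0 : ℚ) < rk F := by
      rw [h6] at hpos
      exact (mul_pos_iff_of_pos_right h10).1 hpos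
    have hG0 : (0 : ℚ) < rk G := by exact_mod_cast Nat.pos_of_ne_zero hrk
    rw [hatSlope, hatSlope, h2, h5, h6, h7, div_le_div_iff₀ (mul_pos hF0 h10) (mul_pos hG0 h10)]
    have h11 : Deg (dlt k L n) (fun y : C1 X => lat F e y.1) ≤ 0 := h3.trans h4
    nlinarith [mul_nonneg (mul_pos hG0 h10).le (neg_nonneg.2 h11)]

end K752.Glue
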