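import Groth.Agent.ShStab.K752.Glue
import Groth.Agent.ShStab.K849.FrobPull
import Groth.Agent.ShStab.K849.OmegaEta

/-!
# Strong slope semistability in rank two and three
-/

set_option autoImplicit false
universe u
open CategoryTheory CategoryTheory.Limits AlgebraicGeometry Opposite TopologicalSpace Module Polynomial

namespace K752.Glue

open Groth.Agent Groth.Agent.CycB.StalkExact K848.Hull
open K849.DvrLat K849.CstTor K849.CstDeg K849.Fam K849.Cst K848.TF K848.Rank K848.HB K848.Dim K848.Poly K848.Stab StabCat
open K849.FrobPull K849.OmegaEta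
open K752.Ranks K752.FamDual K752.FamFrob K752.Semi K752.Fund

variable {X : Scheme.{u}} [IsIntegral X]

attribute [local instance 50] modAt

/-- Pure coherent modules of full dimension are torsion-free. -/
theorem isTorsionFree_of_isPure [IsLocallyNoetherian X] {n : ℕ} (hn : topologicalKrullDim X = n) {E : X.Modules}
    (hE : Coh.IsCoh E) (h : ShStab.IsPure X E n) : TorSh.IsTorsionFree E := by
  let W : Submodule (X.presheaf.stalk (genericPoint X)) (E.presheaf.stalk (genericPoint X)) := ⊥
  have hc : Coh.IsCoh (genSub E W).toModules := isCoh_genSub W hE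
  have hrk : rk (genSub E W).toModules = 0 := by
    rw [rk_genSub]
    exact finrank_bot _ _
  have hz : IsZero (genSub E W).toModules := by
    by_contra h0
    have h1 := h _ (genSub E W).ι inferInstance hc h0
    have h2 := dim_support_le_pred hn hc ((rk_eq_zero_iff hc).1 hrk)
    rw [h1] at h2
    have h3 : ((n + 1 : ℕ) : WithBot ℕ∞) ≤ (n : WithBot ℕ∞) := by push_cast; exact h2
    have h4 : n + 1 ≤ n := by exact_mod_cast h3
    omega
  refine isTorsionFree_of_spec_injective fun y => ?_
  rw [injective_iff_map_eq_zero]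
  intro m hm
  have h1 : m ∈ LinearMap.range (stalkLin (genSub E W).ι y) := by
    rw [range_stalk_genSub]
    exact hm
  obtain ⟨m', rfl⟩ := h1
  have h2 : Subsingleton ((genSub E W).toModules.presheaf.stalk y) :=
    (Groth.Agent.VarietyB.ExactLoc.isZero_iff_stalk _).1 hz y
  rw [Subsingleton.elim m' 0, map_zero]

variable (k : Type u) [Field k] [X.Over (Spec (CommRingCat.of k))] [IsProper (X ↘ Spec (CommRingCat.of k))]
  [IsNoetherian X] [RegOne X] {L : X.Modules} {n : ℕ}

/-- Gieseker semistable modules of slope zero. -/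
theorem SS_of_isSemistable (hL : CohB1.IsAmple L) (hn : topologicalKrullDim X = n) (h1 : 1 ≤ n) {r : ℕ} (hr : r ≠ 0)
    {P0 PH : ℚ[X]} (hP0 : ShStab.IsHilbPoly k X L (Coh.structureModule X) P0) {H : X.Modules}
    (hPH : ShStab.IsHilbPoly k X L H PH) (hH : ShStab.IsSemistable k X L H n)
    (hrk : alpha n PH = r * alpha n P0) (hμ : hatSlope n PH = hatSlope n P0) : SS k L n r H := by
  obtain rfl := eq_hp k hP0
  obtain rfl := eq_hp k hPH
  obtain ⟨hc, hz, hpure, hss⟩ := hH
  have ht := isTorsionFree_of_isPure hn hc hpure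
  have hα := alpha_O_pos k hL hn
  have hrk' : rk H = r := by
    rw [alpha_rk k hL.1 hn hc] at hrk
    have := mul_right_cancel₀ hα.ne' hrk
    exact_mod_cast this
  have hr0 : (0 : ℚ) < r := by exact_mod_cast Nat.pos_of_ne_zero hr
  have hfin := finite_gen hc
  have hfam := isFam_lat hc ht LinearMap.id Function.bijective_id
  have h5 := alpha_eq k hL.1 hn hc ht LinearMap.id Function.bijective_id
  have h9 : finrank X.functionField (H.presheaf.stalk (genericPoint X)) = r := hrk'
  rw [h9] at h5
  have hpred : alpha (n - 1) (hp k L H) = r * alpha (n - 1) (hp k L (Coh.structureModule X)) := by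
    rw [hatSlope, hatSlope, hrk, div_eq_div_iff (mul_pos hr0 hα).ne' hα.ne'] at hμ
    have h6 : (alpha (n - 1) (hp k L H) - r * alpha (n - 1) (hp k L (Coh.structureModule X))) *
        alpha n (hp k L (Coh.structureModule X)) = 0 := by linarith
    rcases mul_eq_zero.1 h6 with h7 | h7
    · linarith
    · exact absurd h7 hα.ne'
  have hdeg : Deg (dlt k L n) (lf H) = 0 := by
    have h6 : Deg (dlt k L n) (fun y : C1 X => lat H LinearMap.id y.1) = 0 := by linarith
    exact h6
  refine ⟨hc, ht, hrk', hdeg, fun W => ?_⟩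
  by_cases hs0 : finrank X.functionField W = 0
  · rw [deg_sub_bot (prin k hL.1 hn) hfam W hs0]
  by_cases hsr : finrank X.functionField W = r
  · have h6 := W.finrank_quotient_add_finrank
    rw [deg_sub_top (prin k hL.1 hn) hfam W (by omega)]
    exact hdeg.le
  have hFc := isCoh_genSub W hc
  have hFrk : rk (genSub H W).toModules = finrank X.functionField W := rk_genSub W
  have hFz : ¬ IsZero (genSub H W).toModules := fun h0 => hs0 (by
    rw [← hFrk]
    have h2 : Subsingleton ((genSub H W).toModules.presheaf.stalk (genericPoint X)) :=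
      (Groth.Agent.VarietyB.ExactLoc.isZero_iff_stalk _).1 h0 _
    exact Module.finrank_zero_of_subsingleton)
  have hiso : ¬ IsIso (genSub H W).ι := fun h0 => hsr (by
    rw [← hFrk, rk_iso (asIso (genSub H W).ι), hrk'])
  have h6 := hss _ (genSub H W).ι inferInstance hFc hFz hiso _ _ (isHilbPoly_hp k hL.1 hFc) (isHilbPoly_hp k hL.1 hc)
  have h7 := alpha_rk k hL.1 hn hFc
  have h8 := alpha_genSub k hL.1 hn hc ht W
  have hnF := natDegree_le k hL.1 hn hFc
  have hnH := natDegree_le k hL.1 hn hc
  rw [hFrk] at h7
  have h10 := coeff_pred_le_of_polyLE (d := n) ((natDegree_smul_le _ _).trans hnF) ((natDegree_smul_le _ _).trans hnH) h6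
    (by
      rw [coeff_smul, coeff_smul, smul_eq_mul, smul_eq_mul, alpha, alpha]
      ring)
  rw [coeff_smul, coeff_smul, smul_eq_mul, smul_eq_mul, hrk, h7] at h10
  have h11 : (r * alpha n (hp k L (Coh.structureModule X))) * alpha (n - 1) (hp k L (genSub H W).toModules) ≤
      (finrank X.functionField W * alpha n (hp k L (Coh.structureModule X))) * alpha (n - 1) (hp k L H) := by
    have h12 := mul_le_mul_of_nonneg_left h10 (factorial_pos' (n - 1)).le
    have e1 : alpha (n - 1) (hp k L (genSub H W).toModules) =
      ((n - 1).factorial : ℚ) * (hp k L (genSub H W).toModules).coeff (n - 1) := rfl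
    have e2 : alpha (n - 1) (hp k L H) = ((n - 1).factorial : ℚ) * (hp k L H).coeff (n - 1) := rfl
    rw [e1, e2]
    linarith
  rw [h8, hpred] at h11
  have h12 : (r * alpha n (hp k L (Coh.structureModule X))) * Deg (dlt k L n) (sub (lf H) W) ≤ 0 := by linarith
  by_contra hcon
  exact absurd h12 (not_le.2 (mul_pos (mul_pos hr0 hα) (not_le.1 hcon)))

variable [Smooth (X ↘ Spec (CommRingCat.of k))] (p : ℕ) [Fact p.Prime] [CharP k p] [PerfectField k] [FrobSch.IsCharP X p]

omit [AlgebraicGeometry.IsNoetherian X] [RegOne X] in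
theorem charP_functionField : CharP X.functionField p := by
  rw [CharP.charP_iff_prime_eq_zero Fact.out]
  have h := FrobSch.IsCharP.natCast_eq_zero (X := X) (p := p)
  have h2 := congrArg (X.presheaf.germ ⊤ (genericPoint X) trivial) h
  simpa using h2

omit [AlgebraicGeometry.IsNoetherian X] [RegOne X] in
/-- The Frobenius twist attached to a module. -/
noncomputable def twG (G : X.Modules) :
    Tw p X.functionField (G.presheaf.stalk (genericPoint X)) ((FP p G).presheaf.stalk (genericPoint X)) where
  ψ := psi p G
  smul := psi_smul p G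
  basis _ b := psi_basis p G b

omit [AlgebraicGeometry.IsNoetherian X] [RegOne X] in
theorem lf_FP (G : X.Modules) : lf (FP p G) = tw (twG p G) (lf G) := funext fun y => lat_frob p G y.1

omit [FrobSch.IsCharP X p] in
theorem data (hL : CohB1.IsAmple L) (hn : topologicalKrullDim X = n) {G : X.Modules} (hG : Coh.IsCoh G)
    (ht : TorSh.IsTorsionFree G) : Data (dlt k L n) (lf G) (lf (Om k X)) (dη k X) p where
  prin := prin k hL.1 hn
  nonneg y := (dlt_pos k hL hn y).le
  int := dlt_int k hL.1 hn
  fam := isFam_lat hG ht LinearMap.id Function.bijective_id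
  famM := isFam_lat (isCoh_Om k X) (isTorsionFree_Om k X) LinearMap.id Function.bijective_id
  mem y r := dη_mem_lat k X y.1 r
  ker _ hc := exists_pow k X p hc

omit [PerfectField k] in
/-- The bound on the differentials. -/
theorem bound_Om (hL : CohB1.IsAmple L) (hn : topologicalKrullDim X = n) (κ : ℚ)
    {P0 : ℚ[X]} (hP0 : ShStab.IsHilbPoly k X L (Coh.structureModule X) P0)
    (hΩ : ∀ (F : X.Modules) (ι : F ⟶ Om k X) (PF : ℚ[X]),
      Mono ι → Coh.IsCoh F → ShStab.IsHilbPoly k X L F PF → 0 < StabCat.alpha n PF →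
        StabCat.alpha n P0 * (StabCat.hatSlope n PF - StabCat.hatSlope n P0) < κ)
    (U : Submodule X.functionField ((Om k X).presheaf.stalk (genericPoint X))) (hU : U ≠ ⊥) :
    Deg (dlt k L n) (sub (lf (Om k X)) U) < κ * finrank X.functionField U := by
  obtain rfl := eq_hp k hP0
  have hc := isCoh_Om k X
  have hfin := finite_gen hc
  have hFc := isCoh_genSub U hc
  have hFrk : rk (genSub (Om k X) U).toModules = finrank X.functionField U := rk_genSub U
  have hs : (0 : ℚ) < finrank X.functionField U := by
    exact_mod_cast Nat.pos_of_ne_zero fun h => hU (Submodule.finrank_eq_zero.1 h)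
  have hα := alpha_O_pos k hL hn
  have h7 := alpha_rk k hL.1 hn hFc
  rw [hFrk] at h7
  have h8 := alpha_genSub k hL.1 hn hc (isTorsionFree_Om k X) U
  have h9 := hΩ _ (genSub (Om k X) U).ι _ inferInstance hFc (isHilbPoly_hp k hL.1 hFc) (by
    rw [h7]
    exact mul_pos hs hα)
  rw [hatSlope, hatSlope, h7, h8] at h9
  have h10 : alpha n (hp k L (Coh.structureModule X)) *
      ((finrank X.functionField U * alpha (n - 1) (hp k L (Coh.structureModule X)) +
        Deg (dlt k L n) (sub (lf (Om k X)) U)) / (finrank X.functionField U * alpha n (hp k L (Coh.structureModule X))) -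
        alpha (n - 1) (hp k L (Coh.structureModule X)) / alpha n (hp k L (Coh.structureModule X))) =
      Deg (dlt k L n) (sub (lf (Om k X)) U) / finrank X.functionField U := by
    field_simp
    ring
  rw [h10, div_lt_iff₀ hs] at h9
  exact h9

end K752.Glue
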