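import Groth.Agent.ShStab.K752.Ranks
import Groth.Agent.ShStab.K991.FamT

/-!
# S18559: twists of semistable families are semistable, from the tensor product theorem
-/

set_option autoImplicit false
universe u
open CategoryTheory CategoryTheory.Limits AlgebraicGeometry Opposite TopologicalSpace Module

namespace K752.N5

open K849.DvrLat K849.CstTor K849.CstDeg K849.Fam K752.Semi K752.FamPair K752.FamFrob K752.FamDual K752.Fund K752.Ranks
open K991.FamT

/-- An element of maximal slope, and of maximal rank among these. -/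
theorem exists_opt {α : Type*} [Nonempty α] (r : α → ℕ) (d : α → ℤ) (n : ℕ) (hr : ∀ s, 1 ≤ r s) (hn : ∀ s, r s ≤ n)
    (C : ℤ) (hC : ∀ s, d s ≤ C) :
    ∃ s0, ∀ s, d s * r s0 ≤ d s0 * r s ∧ (d s * r s0 = d s0 * r s → r s ≤ r s0) := by
  have hdv : ∀ s, r s ∣ n.factorial := fun s => Nat.dvd_factorial (hr s) (hn s)
  choose c hc using hdv
  let z : α → ℤ := fun s => c s * d s
  have hz : ∀ s, z s * r s = n.factorial * d s := fun s => by
    change ((c s : ℤ) * d s) * r s = _
    rw [hc s]
    push_cast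
    ring
  have hcn : ∀ s, (c s : ℤ) ≤ n.factorial := fun s => by
    rw [hc s]
    push_cast
    have h1 : (1 : ℤ) ≤ r s := by exact_mod_cast hr s
    have h2 : (0 : ℤ) ≤ c s := Int.natCast_nonneg _
    nlinarith
  have hzb : ∀ s, z s ≤ n.factorial * max C 0 := fun s => by
    have h1 : d s ≤ max C 0 := (hC s).trans (le_max_left _ _)
    have h2 : (0 : ℤ) ≤ c s := Int.natCast_nonneg _
    have h3 : (0 : ℤ) ≤ max C 0 := le_max_right _ _
    exact (mul_le_mul_of_nonneg_left h1 h2).trans (mul_le_mul_of_nonneg_right (hcn s) h3)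
  obtain ⟨m, ⟨s0, hs0⟩, hm⟩ := Int.exists_greatest_of_bdd (P := fun x => ∃ s, z s * (n + 1) + r s = x)
    ⟨n.factorial * max C 0 * (n + 1) + n, by
      rintro _ ⟨s, rfl⟩
      have h1 : (0 : ℤ) ≤ (n : ℤ) + 1 := by positivity
      have h2 : (r s : ℤ) ≤ n := by exact_mod_cast hn s
      have h3 := mul_le_mul_of_nonneg_right (hzb s) h1
      linarith⟩ ⟨_, Classical.arbitrary α, rfl⟩
  refine ⟨s0, fun s => ?_⟩
  have h1 : z s * (n + 1) + r s ≤ z s0 * (n + 1) + r s0 := by rw [hs0]; exact hm _ ⟨s, rfl⟩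
  have h2 : (r s0 : ℤ) ≤ n := by exact_mod_cast hn s0
  have h3 : (1 : ℤ) ≤ r s := by exact_mod_cast hr s
  have h3' : (1 : ℤ) ≤ r s0 := by exact_mod_cast hr s0
  have h4 : z s ≤ z s0 := by
    by_contra hc
    have h5 : z s0 + 1 ≤ z s := not_le.1 hc
    have h6 : (0 : ℤ) ≤ (n : ℤ) + 1 := by positivity
    nlinarith
  have hf : (0 : ℤ) < n.factorial := by exact_mod_cast n.factorial_pos
  have hz1 := hz s
  have hz2 := hz s0
  constructor
  · refine le_of_mul_le_mul_left ?_ hf
    have e1 : (n.factorial : ℤ) * (d s * r s0) = z s * (r s * r s0) := by rw [← mul_assoc, ← hz1]; ring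
    have e2 : (n.factorial : ℤ) * (d s0 * r s) = z s0 * (r s * r s0) := by rw [← mul_assoc, ← hz2]; ring
    rw [e1, e2]
    exact mul_le_mul_of_nonneg_right h4 (by positivity)
  · intro he
    have e1 : (n.factorial : ℤ) * (d s * r s0) = z s * (r s * r s0) := by rw [← mul_assoc, ← hz1]; ring
    have e2 : (n.factorial : ℤ) * (d s0 * r s) = z s0 * (r s * r s0) := by rw [← mul_assoc, ← hz2]; ring
    rw [he, e2] at e1
    have h5 : z s0 = z s := mul_right_cancel₀ (ne_of_gt (by positivity)) e1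
    rw [h5] at h1
    have h6 : (r s : ℤ) ≤ r s0 := by linarith
    exact_mod_cast h6

variable {X : Scheme.{u}} [IsIntegral X] [IsNoetherian X] [RegOne X]

attribute [local instance 50] modAt

variable {V : Type u} [AddCommGroup V] [Module (X.presheaf.stalk (genericPoint X)) V]
  {V' : Type u} [AddCommGroup V'] [Module (X.presheaf.stalk (genericPoint X)) V']
  {M : Type u} [AddCommGroup M] [Module (X.presheaf.stalk (genericPoint X)) M]
  {p : ℕ} {δ : C1 X → ℚ}

theorem deg_top (hδ : IsPrin δ) {Λ : LFam X V} (h : IsFam Λ) [Module.Finite X.functionField V] :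
    Deg δ (sub Λ ⊤) = Deg δ Λ :=
  deg_sub_top hδ h ⊤ (by
    have : Subsingleton (V ⧸ (⊤ : Submodule X.functionField V)) := Submodule.Quotient.subsingleton_iff.2 rfl
    exact Module.finrank_zero_of_subsingleton)

/-- A nonzero subspace of maximal slope. -/
theorem exists_maxSlope (hδ : IsPrin δ) (h0 : ∀ y, 0 ≤ δ y) (hi : ∀ y, ∃ n : ℤ, δ y = n) {Λ : LFam X V} (h : IsFam Λ)
    [Module.Finite X.functionField V] [Nontrivial V] :
    ∃ A : Submodule X.functionField V, A ≠ ⊥ ∧ ∀ W : Submodule X.functionField V, W ≠ ⊥ →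
      Deg δ (sub Λ W) * finrank X.functionField A ≤ Deg δ (sub Λ A) * finrank X.functionField W := by
  obtain ⟨N, hN⟩ := Deg_bdd hδ h0 h (Module.finBasis X.functionField V)
  have hint : ∀ W : Submodule X.functionField V, ∃ n : ℤ, Deg δ (sub Λ W) = n := fun W =>
    Deg_int hδ hi (fam_sub h W) (Module.finBasis X.functionField W)
  choose n hn using hint
  obtain ⟨B, hB⟩ := exists_int_ge N
  have : Nonempty {W : Submodule X.functionField V // W ≠ ⊥} := ⟨⟨⊤, top_ne_bot⟩⟩
  obtain ⟨⟨A, hA⟩, hmax⟩ := exists_opt (α := {W : Submodule X.functionField V // W ≠ ⊥})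
    (fun W => finrank X.functionField W.1) (fun W => n W.1) (finrank X.functionField V)
    (fun W => Nat.one_le_iff_ne_zero.2 fun h1 => W.2 (Submodule.finrank_eq_zero.1 h1))
    (fun W => Submodule.finrank_le W.1) B (fun W => by
      have h1 := (hN W.1).trans hB
      rw [hn] at h1
      exact_mod_cast h1)
  refine ⟨A, hA, fun W hW => ?_⟩
  have h1 := (hmax ⟨W, hW⟩).1
  rw [hn, hn]
  exact_mod_cast h1

/-- A subspace of maximal slope is semistable. -/
theorem sst_of_maxSlope (hδ : IsPrin δ) (h0 : ∀ y, 0 ≤ δ y) {Λ : LFam X V} (h : IsFam Λ)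
    [Module.Finite X.functionField V] {A : Submodule X.functionField V}
    (hA : ∀ W : Submodule X.functionField V, W ≠ ⊥ →
      Deg δ (sub Λ W) * finrank X.functionField A ≤ Deg δ (sub Λ A) * finrank X.functionField W) :
    SSt δ (sub Λ A) := by
  intro U
  by_cases hU : U = ⊥
  · have h1 : finrank X.functionField U = 0 := Submodule.finrank_eq_zero.2 hU
    rw [deg_sub_bot hδ (fam_sub h A) U h1, h1]
    simp
  · have h1 : U.map A.subtype ≠ ⊥ := fun h2 => hU (by
      rw [eq_bot_iff]
      intro x hx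
      have h3 : A.subtype x ∈ U.map A.subtype := ⟨x, hx, rfl⟩
      rw [h2, Submodule.mem_bot] at h3
      exact A.injective_subtype (h3.trans (map_zero A.subtype).symm))
    have h2 := hA _ h1
    have h3 := deg_sub_sub hδ h0 h A U
    have h4 : finrank X.functionField (U.map A.subtype) = finrank X.functionField U :=
      (U.equivMapOfInjective A.subtype A.injective_subtype).finrank_eq.symm
    rw [h4] at h2
    have h5 : (0 : ℚ) ≤ finrank X.functionField A := Nat.cast_nonneg _
    have h6 := mul_le_mul_of_nonneg_right h3 h5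
    linarith

/-- A proper subspace whose quotient has minimal slope, and maximal rank among these. -/
theorem exists_minQuot (hδ : IsPrin δ) (h0 : ∀ y, 0 ≤ δ y) (hi : ∀ y, ∃ n : ℤ, δ y = n) {Λ : LFam X V} (h : IsFam Λ)
    [Module.Finite X.functionField V] [Nontrivial V] :
    ∃ W : Submodule X.functionField V, W ≠ ⊤ ∧ ∀ U : Submodule X.functionField V, U ≠ ⊤ →
      Deg δ (quo Λ W) * finrank X.functionField (V ⧸ U) ≤ Deg δ (quo Λ U) * finrank X.functionField (V ⧸ W) ∧
      (Deg δ (quo Λ W) * finrank X.functionField (V ⧸ U) = Deg δ (quo Λ U) * finrank X.functionField (V ⧸ W) →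
        finrank X.functionField (V ⧸ U) ≤ finrank X.functionField (V ⧸ W)) := by
  obtain ⟨N, hN⟩ := Deg_bdd hδ h0 h (Module.finBasis X.functionField V)
  have hint : ∀ W : Submodule X.functionField V, ∃ n : ℤ, Deg δ (quo Λ W) = n := fun W =>
    Deg_int hδ hi (fam_quo h W) (Module.finBasis X.functionField (V ⧸ W))
  choose n hn using hint
  obtain ⟨B, hB⟩ := exists_int_ge (N - Deg δ Λ)
  have : Nonempty {W : Submodule X.functionField V // W ≠ ⊤} := ⟨⟨⊥, bot_ne_top⟩⟩
  obtain ⟨⟨A, hA⟩, hmax⟩ := exists_opt (α := {W : Submodule X.functionField V // W ≠ ⊤})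
    (fun W => finrank X.functionField (V ⧸ W.1)) (fun W => - n W.1) (finrank X.functionField V)
    (fun W => Nat.one_le_iff_ne_zero.2 fun h1 => W.2 (by
      have : Subsingleton (V ⧸ W.1) := Module.finrank_zero_iff.1 h1
      exact Submodule.Quotient.subsingleton_iff.1 this))
    (fun W => Submodule.finrank_quotient_le W.1) B (fun W => by
      have h1 := (hN W.1)
      have h2 := deg_exact hδ h W.1
      have h3 : - (n W.1 : ℚ) ≤ B := by
        rw [← hn]
        linarith
      exact_mod_cast h3)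
  refine ⟨A, hA, fun W hW => ?_⟩
  obtain ⟨h1, h2⟩ := hmax ⟨W, hW⟩
  dsimp only at h1 h2
  rw [hn, hn]
  constructor
  · have h3 : n A * finrank X.functionField (V ⧸ W) ≤ n W * finrank X.functionField (V ⧸ A) := by linarith
    exact_mod_cast h3
  · intro h3
    refine h2 ?_
    have h4 : n A * finrank X.functionField (V ⧸ W) = n W * finrank X.functionField (V ⧸ A) := by exact_mod_cast h3
    linarith

/-- The quotient by the preimage. -/
theorem deg_quo_comap (hδ : IsPrin δ) (h0 : ∀ y, 0 ≤ δ y) {Λ : LFam X V} (h : IsFam Λ)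
    [Module.Finite X.functionField V] (W : Submodule X.functionField V) (U : Submodule X.functionField (V ⧸ W)) :
    finrank X.functionField (V ⧸ U.comap W.mkQ) = finrank X.functionField ((V ⧸ W) ⧸ U) ∧
      Deg δ (quo Λ (U.comap W.mkQ)) ≤ Deg δ (quo (quo Λ W) U) := by
  let f : (V ⧸ U.comap W.mkQ) →ₗ[X.functionField] ((V ⧸ W) ⧸ U) := (U.comap W.mkQ).mapQ U W.mkQ le_rfl
  have hf : Function.Bijective f := by
    constructor
    · rw [injective_iff_map_eq_zero]
      intro x hx
      obtain ⟨v, rfl⟩ := (U.comap W.mkQ).mkQ_surjective x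
      have h1 : U.mkQ (W.mkQ v) = 0 := hx
      rw [U.mkQ_apply, Submodule.Quotient.mk_eq_zero] at h1
      rw [Submodule.mkQ_apply, Submodule.Quotient.mk_eq_zero]
      exact h1
    · intro x
      obtain ⟨v, rfl⟩ := U.mkQ_surjective x
      obtain ⟨v, rfl⟩ := W.mkQ_surjective v
      exact ⟨(U.comap W.mkQ).mkQ v, rfl⟩
  let e : (V ⧸ U.comap W.mkQ) ≃ₗ[X.functionField] ((V ⧸ W) ⧸ U) := LinearEquiv.ofBijective f hf
  refine ⟨e.finrank_eq, Deg_le_of_equiv hδ h0 (fam_quo h _) (fam_quo (fam_quo h W) U) e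
    (Module.finBasis X.functionField _) fun y v hv => ?_⟩
  obtain ⟨w, hw, rfl⟩ := hv
  exact ⟨W.mkQ w, ⟨w, hw, rfl⟩, rfl⟩

/-- A quotient of minimal slope is semistable. -/
theorem sst_of_minQuot (hδ : IsPrin δ) (h0 : ∀ y, 0 ≤ δ y) {Λ : LFam X V} (h : IsFam Λ)
    [Module.Finite X.functionField V] {W : Submodule X.functionField V}
    (hW : ∀ U : Submodule X.functionField V, U ≠ ⊤ →
      Deg δ (quo Λ W) * finrank X.functionField (V ⧸ U) ≤ Deg δ (quo Λ U) * finrank X.functionField (V ⧸ W)) :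
    SSt δ (quo Λ W) := by
  intro U
  by_cases hU : U = ⊤
  · subst hU
    rw [deg_top hδ (fam_quo h W), finrank_top]
  · have h1 : U.comap W.mkQ ≠ ⊤ := fun h2 => hU (by
      rw [eq_top_iff]
      rintro x -
      obtain ⟨v, rfl⟩ := W.mkQ_surjective x
      have h3 : v ∈ U.comap W.mkQ := by rw [h2]; trivial
      exact h3)
    have h2 := hW _ h1
    obtain ⟨h3, h4⟩ := deg_quo_comap hδ h0 h W U
    rw [h3] at h2
    have h5 := deg_exact hδ (fam_quo h W) U
    have h6 := U.finrank_quotient_add_finrank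
    have h7 : (finrank X.functionField (V ⧸ W) : ℚ) = finrank X.functionField ((V ⧸ W) ⧸ U) + finrank X.functionField U := by
      exact_mod_cast h6.symm
    have h8 : (0 : ℚ) ≤ finrank X.functionField (V ⧸ W) := Nat.cast_nonneg _
    have h9 := mul_le_mul_of_nonneg_right h4 h8
    have h10 : Deg δ (quo (quo Λ W) U) = Deg δ (quo Λ W) - Deg δ (sub (quo Λ W) U) := by linarith
    rw [h10] at h9
    have h11 : Deg δ (quo Λ W) * finrank X.functionField ((V ⧸ W) ⧸ U) ≤
        (Deg δ (quo Λ W) - Deg δ (sub (quo Λ W) U)) * finrank X.functionField (V ⧸ W) := h2.trans h9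
    rw [h7] at h11 ⊢
    linarith

end K752.N5
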