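import Groth.Agent.ShStab.K752.N5

/-!
# S18559: twists of semistable families are semistable, from the tensor product theorem (2)
-/

set_option autoImplicit false
universe u
open CategoryTheory CategoryTheory.Limits AlgebraicGeometry Opposite TopologicalSpace Module

namespace K752.N5

open K849.DvrLat K849.CstTor K849.CstDeg K849.Fam K752.Semi K752.FamPair K752.FamFrob K752.FamDual K752.Fund K752.Ranks
open K991.FamT

variable {X : Scheme.{u}} [IsIntegral X]

attribute [local instance 50] modAt

variable {V : Type u} [AddCommGroup V] [Module (X.presheaf.stalk (genericPoint X)) V]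
  {V' : Type u} [AddCommGroup V'] [Module (X.presheaf.stalk (genericPoint X)) V']
  {M : Type u} [AddCommGroup M] [Module (X.presheaf.stalk (genericPoint X)) M]
  {ι : Type} [Fintype ι] {p : ℕ}

/-- The second fundamental form as a bilinear map. -/
noncomputable def betaBil (d : Derivation ℤ X.functionField M) (b : Basis ι X.functionField V')
    (W : Submodule X.functionField V') : W →ₗ[X.functionField] Dl X (V' ⧸ W) →ₗ[X.functionField] M where
  toFun w := betaR d b W w
  map_add' w w' := LinearMap.ext fun q => theta_add d b w w' (q.fn.comp W.mkQ)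
  map_smul' a w := LinearMap.ext fun q => by
    change theta d b (a • (w : V')) (q.fn.comp W.mkQ) = a • theta d b w (q.fn.comp W.mkQ)
    rw [theta_smul]
    have h1 : (q.fn.comp W.mkQ) (w : V') = 0 := by
      change q.fn (W.mkQ (w : V')) = 0
      rw [W.mkQ_apply, (Submodule.Quotient.mk_eq_zero W).2 w.2, map_zero]
    rw [h1, zero_smul, add_zero]

theorem betaBil_apply (d : Derivation ℤ X.functionField M) (b : Basis ι X.functionField V')
    (W : Submodule X.functionField V') (w : W) (q : Dl X (V' ⧸ W)) :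
    betaBil d b W w q = theta d b (w : V') (q.fn.comp W.mkQ) := rfl

/-- The dimension of a subspace which descends. -/
theorem finrank_post [Fact p.Prime] [CharP X.functionField p] [Module.Finite X.functionField V]
    (T : Tw p X.functionField V V') (W : Submodule X.functionField V) :
    finrank X.functionField (T.post W) = finrank X.functionField W := by
  have hf : Module.Finite X.functionField V' := Module.Finite.of_basis (T.tb (Module.finBasis X.functionField V))
  have h1 := (T.post W).finrank_quotient_add_finrank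
  have h2 := W.finrank_quotient_add_finrank
  have h3 : finrank X.functionField V' = finrank X.functionField V := by
    rw [Module.finrank_eq_card_basis (T.tb (Module.finBasis X.functionField V)), Fintype.card_fin]
  have h4 : finrank X.functionField (V' ⧸ T.post W) = finrank X.functionField (V ⧸ W) := by
    rw [Module.finrank_eq_card_basis ((T.quot W).tb (Module.finBasis X.functionField (V ⧸ W))), Fintype.card_fin]
  omega

variable [IsNoetherian X] [RegOne X] {δ : C1 X → ℚ}

/-- **The minimal destabilizing quotient against the differentials.** -/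
theorem contra [Fact p.Prime] [CharP X.functionField p] (hMT : StmtMT X p)
    (hδ : IsPrin δ) (h0 : ∀ y, 0 ≤ δ y) (hi : ∀ y, ∃ n : ℤ, δ y = n) [Module.Finite X.functionField M]
    {ΛM : LFam X M} (hM : IsFam ΛM) (d : Derivation ℤ X.functionField M)
    (hd : ∀ (y : C1 X) (r : X.presheaf.stalk y.1), d (algebraMap _ X.functionField r) ∈ ΛM y)
    (r : ℕ) (hU : ∀ a b : ℕ, 1 ≤ a → 1 ≤ b → a + b ≤ r → ∀ U : Submodule X.functionField M, U ≠ ⊥ →
      (Nat.lcm a b : ℚ) * Deg δ (sub ΛM U) < finrank X.functionField U)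
    [Module.Finite X.functionField V] {Λ : LFam X V} (h : IsFam Λ) (hr : finrank X.functionField V ≤ r)
    (T : Tw p X.functionField V V') (b : Basis ι X.functionField V)
    (hS : ∀ (A : Type u) [AddCommGroup A] [Module (X.presheaf.stalk (genericPoint X)) A]
      [Module.Finite X.functionField A] (ΛA : LFam X A), IsFam ΛA → finrank X.functionField A + 1 ≤ finrank X.functionField V →
      SSt δ ΛA → Strong p δ ΛA)
    (W : Submodule X.functionField V') (hW : W ≠ ⊤)
    (hmin : ∀ U : Submodule X.functionField V', U ≠ ⊤ →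
      Deg δ (quo (tw T Λ) W) * finrank X.functionField (V' ⧸ U) ≤
        Deg δ (quo (tw T Λ) U) * finrank X.functionField (V' ⧸ W) ∧
      (Deg δ (quo (tw T Λ) W) * finrank X.functionField (V' ⧸ U) =
        Deg δ (quo (tw T Λ) U) * finrank X.functionField (V' ⧸ W) →
        finrank X.functionField (V' ⧸ U) ≤ finrank X.functionField (V' ⧸ W)))
    (hθ : betaBil d (T.tb b) W ≠ 0) : False := by
  classical
  have hfin' : Module.Finite X.functionField V' := Module.Finite.of_basis (T.tb b)
  have hV : finrank X.functionField V' = finrank X.functionField V := by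
    rw [Module.finrank_eq_card_basis (T.tb b), Module.finrank_eq_card_basis b]
  have hΛ' : IsFam (tw T Λ) := h.tw T b
  set N : Submodule X.functionField W := LinearMap.ker (betaBil d (T.tb b) W) with hN
  have hNtop : N ≠ ⊤ := fun h1 => hθ (LinearMap.ker_eq_top.1 h1)
  have hnt : Nontrivial (W ⧸ N) := Submodule.Quotient.nontrivial_iff.2 hNtop
  let Λ2 : LFam X (W ⧸ N) := quo (sub (tw T Λ) W) N
  have hΛ2 : IsFam Λ2 := fam_quo (fam_sub hΛ' W) N
  obtain ⟨A0, hA0, hmax⟩ := exists_maxSlope hδ h0 hi hΛ2
  have hAs : SSt δ (sub Λ2 A0) := sst_of_maxSlope hδ h0 hΛ2 hmax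
  have hBs : SSt δ (quo (tw T Λ) W) := sst_of_minQuot hδ h0 hΛ' fun U hU => (hmin U hU).1
  -- ranks
  have r1 := W.finrank_quotient_add_finrank
  have r2 := N.finrank_quotient_add_finrank
  have r3 := A0.finrank_le
  have ha : finrank X.functionField A0 ≠ 0 := fun h1 => hA0 (Submodule.finrank_eq_zero.1 h1)
  have hb : finrank X.functionField (V' ⧸ W) ≠ 0 := fun h1 => hW (by
    have : Subsingleton (V' ⧸ W) := Module.finrank_zero_iff.1 h1
    exact Submodule.Quotient.subsingleton_iff.1 this)
  have hw : finrank X.functionField (W ⧸ N) ≠ 0 := fun h1 => hNtop (by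
    have : Subsingleton (W ⧸ N) := Module.finrank_zero_iff.1 h1
    exact Submodule.Quotient.subsingleton_iff.1 this)
  -- the pairing
  let φ2 : (W ⧸ N) →ₗ[X.functionField] Dl X (V' ⧸ W) →ₗ[X.functionField] M := N.liftQ (betaBil d (T.tb b) W) le_rfl
  let φ : A0 →ₗ[X.functionField] Dl X (V' ⧸ W) →ₗ[X.functionField] M := φ2.comp A0.subtype
  have hφ : φ ≠ 0 := by
    intro h1
    apply hA0
    rw [eq_bot_iff]
    intro x hx
    have h2 : φ2 x = 0 := LinearMap.congr_fun h1 ⟨x, hx⟩
    obtain ⟨w, rfl⟩ := N.mkQ_surjective x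
    have h3 : betaBil d (T.tb b) W w = 0 := h2
    rw [Submodule.mem_bot, N.mkQ_apply, Submodule.Quotient.mk_eq_zero]
    exact h3
  have hint : ∀ y, ∀ a ∈ sub Λ2 A0 y, ∀ q ∈ dual (quo (tw T Λ) W) y, φ a q ∈ ΛM y := by
    intro y a ha q hq
    obtain ⟨w, hw, hwa⟩ : ∃ w ∈ sub (tw T Λ) W y, N.mkQ w = (a : W ⧸ N) := ha
    have h1 : φ a q = betaBil d (T.tb b) W w q := by
      change φ2 (a : W ⧸ N) q = _
      rw [← hwa]
      rfl
    rw [h1, betaBil_apply]
    refine theta_mem h T b d hd y _ hw _ fun v hv => ?_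
    exact hq (W.mkQ v) ⟨v, hv, rfl⟩
  have hQ0 : imQ φ ≠ ⊥ := by
    intro h1
    apply hφ
    refine LinearMap.ext fun a => LinearMap.ext fun q => ?_
    have h2 : φ a q ∈ imQ φ := Submodule.subset_span ⟨a, q, rfl⟩
    rw [h1, Submodule.mem_bot] at h2
    exact h2
  have hAf : IsFam (sub Λ2 A0) := fam_sub hΛ2 A0
  have hBf : IsFam (quo (tw T Λ) W) := fam_quo hΛ' W
  have key := hMT δ hδ h0 A0 (V' ⧸ W) M (sub Λ2 A0) (quo (tw T Λ) W) ΛM hAf hBf hM
    (hS A0 (sub Λ2 A0) hAf (by omega) hAs) (hS (V' ⧸ W) (quo (tw T Λ) W) hBf (by omega) hBs) φ hφ hint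
  have key2 := hU (finrank X.functionField A0) (finrank X.functionField (V' ⧸ W)) (by omega) (by omega) (by omega)
    (imQ φ) hQ0
  -- slopes
  obtain ⟨dA, hdA⟩ := Deg_int hδ hi hAf (Module.finBasis X.functionField A0)
  obtain ⟨dB, hdB⟩ := Deg_int hδ hi hBf (Module.finBasis X.functionField (V' ⧸ W))
  have hpos : 0 < (finrank X.functionField (V' ⧸ W) : ℚ) * Deg δ (sub Λ2 A0) -
      finrank X.functionField A0 * Deg δ (quo (tw T Λ) W) := by
    let N' : Submodule X.functionField V' := N.map W.subtype
    have hN' : finrank X.functionField N' = finrank X.functionField N :=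
      (N.equivMapOfInjective W.subtype W.injective_subtype).finrank_eq.symm
    have r4 := N'.finrank_quotient_add_finrank
    have hN't : N' ≠ ⊤ := fun h1 => by
      rw [h1, finrank_top] at hN'
      omega
    obtain ⟨m1, m2⟩ := hmin N' hN't
    have hlt : Deg δ (quo (tw T Λ) W) * finrank X.functionField (V' ⧸ N') <
        Deg δ (quo (tw T Λ) N') * finrank X.functionField (V' ⧸ W) := by
      refine lt_of_le_of_ne m1 fun h1 => ?_
      have h2 := m2 h1
      omega
    have e1 := deg_exact hδ hΛ' N'
    have e2 := deg_exact hδ hΛ' W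
    have e3 := deg_exact hδ (fam_sub hΛ' W) N
    have e4 := deg_sub_sub hδ h0 hΛ' W N
    have e5 : Deg δ (quo (tw T Λ) N') ≤ Deg δ Λ2 + Deg δ (quo (tw T Λ) W) := by
      change Deg δ (sub (sub (tw T Λ) W) N) ≤ Deg δ (sub (tw T Λ) N') at e4
      change Deg δ (sub (tw T Λ) W) = Deg δ (sub (sub (tw T Λ) W) N) + Deg δ Λ2 at e3
      linarith
    have r5 : (finrank X.functionField (V' ⧸ N') : ℚ) = finrank X.functionField (V' ⧸ W) + finrank X.functionField (W ⧸ N) := by
      have : finrank X.functionField (V' ⧸ N') = finrank X.functionField (V' ⧸ W) + finrank X.functionField (W ⧸ N) := by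
        omega
      rw [this]
      push_cast
      rfl
    have hbq : (0 : ℚ) < finrank X.functionField (V' ⧸ W) := by exact_mod_cast Nat.pos_of_ne_zero hb
    have haq : (0 : ℚ) < finrank X.functionField A0 := by exact_mod_cast Nat.pos_of_ne_zero ha
    have hwq : (0 : ℚ) < finrank X.functionField (W ⧸ N) := by exact_mod_cast Nat.pos_of_ne_zero hw
    have f1 := mul_le_mul_of_nonneg_right e5 hbq.le
    rw [r5] at hlt
    have f2 : Deg δ (quo (tw T Λ) W) * finrank X.functionField (W ⧸ N) <
        Deg δ Λ2 * finrank X.functionField (V' ⧸ W) := by linarith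
    have f3 := hmax ⊤ (by
      intro h1
      have := (Submodule.subsingleton_iff X.functionField).1 (subsingleton_of_bot_eq_top h1.symm)
      exact not_subsingleton (W ⧸ N) this)
    rw [deg_top hδ hΛ2, finrank_top] at f3
    have f4 := mul_lt_mul_of_pos_right f2 haq
    have f5 := mul_le_mul_of_nonneg_right f3 hbq.le
    have f6 : 0 < (finrank X.functionField (W ⧸ N) : ℚ) * ((finrank X.functionField (V' ⧸ W) : ℚ) * Deg δ (sub Λ2 A0) -
      finrank X.functionField A0 * Deg δ (quo (tw T Λ) W)) := by linarith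
    exact pos_of_mul_pos_right f6 hwq.le
  -- the final contradiction
  set a := finrank X.functionField A0 with hadef
  set b' := finrank X.functionField (V' ⧸ W) with hbdef
  set q := finrank X.functionField (imQ φ) with hqdef
  rw [hdA, hdB] at hpos key
  have hq : (0 : ℚ) < q := by
    exact_mod_cast Nat.pos_of_ne_zero fun h1 => hQ0 (Submodule.finrank_eq_zero.1 h1)
  have g1 : (0 : ℤ) < b' * dA - a * dB := by exact_mod_cast hpos
  have g2 : ((Nat.gcd a b' : ℕ) : ℤ) ∣ b' * dA - a * dB :=
    dvd_sub (Dvd.dvd.mul_right (Int.natCast_dvd_natCast.2 (Nat.gcd_dvd_right a b')) _)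
      (Dvd.dvd.mul_right (Int.natCast_dvd_natCast.2 (Nat.gcd_dvd_left a b')) _)
  have g3 : ((Nat.gcd a b' : ℕ) : ℤ) ≤ b' * dA - a * dB := Int.le_of_dvd g1 g2
  have g4 : ((Nat.gcd a b' : ℕ) : ℚ) ≤ b' * dA - a * dB := by exact_mod_cast g3
  have g5 : (0 : ℚ) < (Nat.gcd a b' : ℕ) := by
    exact_mod_cast Nat.gcd_pos_of_pos_left _ (Nat.pos_of_ne_zero ha)
  have g6 : (a : ℚ) * b' = (Nat.gcd a b' : ℕ) * (Nat.lcm a b' : ℕ) := by
    exact_mod_cast (Nat.gcd_mul_lcm a b').symm
  have g7 := mul_le_mul_of_nonneg_left g4 hq.le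
  rw [g6] at key
  have g8 := mul_lt_mul_of_pos_left key2 g5
  have g9 : ((Nat.gcd a b' : ℕ) : ℚ) * (Nat.lcm a b' : ℕ) * Deg δ (sub ΛM (imQ φ)) =
      (Nat.gcd a b' : ℕ) * ((Nat.lcm a b' : ℕ) * Deg δ (sub ΛM (imQ φ))) := by ring
  linarith

end K752.N5
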