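import Groth.Agent.ShStab.K752.Fund

/-!
# Frobenius twists of semistable families of rank two and three
-/

set_option autoImplicit false
universe u
open CategoryTheory CategoryTheory.Limits AlgebraicGeometry Opposite TopologicalSpace Module

namespace K752.Ranks

open K849.DvrLat K849.CstTor K849.CstDeg K849.Fam K752.Semi K752.FamPair K752.FamFrob K752.FamDual K752.Fund

variable {X : Scheme.{u}} [IsIntegral X] [IsNoetherian X] [RegOne X]

attribute [local instance 50] modAt

variable {V : Type u} [AddCommGroup V] [Module (X.presheaf.stalk (genericPoint X)) V]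
  {V' : Type u} [AddCommGroup V'] [Module (X.presheaf.stalk (genericPoint X)) V']
  {M : Type u} [AddCommGroup M] [Module (X.presheaf.stalk (genericPoint X)) M]
  {ι : Type} [Fintype ι] [DecidableEq ι] {p : ℕ}
  {δ : C1 X → ℚ} {T : Tw p X.functionField V V'} {Λ : LFam X V} {ΛM : LFam X M} {d : Derivation ℤ X.functionField M}

theorem fam_sub {Λ : LFam X V} (h : IsFam Λ) [Module.Finite X.functionField V] (W : Submodule X.functionField V) :
    IsFam (sub Λ W) :=
  h.sub W (Module.finBasis X.functionField W) (Module.finBasis X.functionField (V ⧸ W))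

theorem fam_quo {Λ : LFam X V} (h : IsFam Λ) [Module.Finite X.functionField V] (W : Submodule X.functionField V) :
    IsFam (quo Λ W) :=
  h.quo W (Module.finBasis X.functionField W) (Module.finBasis X.functionField (V ⧸ W))

theorem deg_exact (hδ : IsPrin δ) {Λ : LFam X V} (h : IsFam Λ) [Module.Finite X.functionField V]
    (W : Submodule X.functionField V) : Deg δ Λ = Deg δ (sub Λ W) + Deg δ (quo Λ W) :=
  Deg_exact hδ h W (Module.finBasis X.functionField W) (Module.finBasis X.functionField (V ⧸ W))

theorem deg_sub_bot (hδ : IsPrin δ) {Λ : LFam X V} (h : IsFam Λ) [Module.Finite X.functionField V]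
    (W : Submodule X.functionField V) (hW : finrank X.functionField W = 0) : Deg δ (sub Λ W) = 0 := by
  have : Subsingleton W := Module.finrank_zero_iff.1 hW
  exact Deg_zero hδ (fam_sub h W)

theorem deg_sub_top (hδ : IsPrin δ) {Λ : LFam X V} (h : IsFam Λ) [Module.Finite X.functionField V]
    (W : Submodule X.functionField V) (hW : finrank X.functionField (V ⧸ W) = 0) : Deg δ (sub Λ W) = Deg δ Λ := by
  have : Subsingleton (V ⧸ W) := Module.finrank_zero_iff.1 hW
  rw [deg_exact hδ h W, Deg_zero hδ (fam_quo h W), add_zero]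

theorem deg_sub_sub (hδ : IsPrin δ) (h0 : ∀ y, 0 ≤ δ y) {Λ : LFam X V} (h : IsFam Λ) [Module.Finite X.functionField V]
    (W : Submodule X.functionField V) (N : Submodule X.functionField W) :
    Deg δ (sub (sub Λ W) N) ≤ Deg δ (sub Λ (N.map W.subtype)) := by
  let e : N ≃ₗ[X.functionField] (N.map W.subtype) := N.equivMapOfInjective W.subtype W.injective_subtype
  exact Deg_le_of_equiv hδ h0 (fam_sub (fam_sub h W) N) (fam_sub h _) e (Module.finBasis X.functionField N)
    fun y v hv => hv

variable [Fact p.Prime] [CharP X.functionField p]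

omit [Fact p.Prime] [CharP X.functionField p] in
/-- The maximal degree of a subspace of the twist. -/
theorem exists_max (D : Data δ Λ ΛM d p) (b : Basis ι X.functionField V) (T : Tw p X.functionField V V') :
    ∃ W : Submodule X.functionField V', ∀ W' : Submodule X.functionField V',
      Deg δ (sub (tw T Λ) W') ≤ Deg δ (sub (tw T Λ) W) := by
  have hfin' : Module.Finite X.functionField V' := Module.Finite.of_basis (T.tb b)
  have hΛ' := D.fam.tw T b
  obtain ⟨N, hN⟩ := Deg_bdd D.prin D.nonneg hΛ' (T.tb b)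
  have hint : ∀ W : Submodule X.functionField V', ∃ n : ℤ, Deg δ (sub (tw T Λ) W) = n := fun W =>
    Deg_int D.prin D.int (fam_sub hΛ' W) (Module.finBasis X.functionField W)
  choose n hn using hint
  obtain ⟨B, hB⟩ := exists_int_ge N
  obtain ⟨m, ⟨W, hW⟩, hm⟩ := Int.exists_greatest_of_bdd (P := fun z => ∃ W, n W = z) ⟨B, by
    rintro z ⟨W, rfl⟩
    have h1 := (hN W).trans hB
    rw [hn] at h1
    exact_mod_cast h1⟩ ⟨_, ⊥, rfl⟩
  refine ⟨W, fun W' => ?_⟩
  rw [hn, hn, hW]
  exact_mod_cast hm _ ⟨W', rfl⟩

omit [Fact p.Prime] [CharP X.functionField p] in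
theorem one_le_of_pos (D : Data δ Λ ΛM d p) (b : Basis ι X.functionField V) (T : Tw p X.functionField V V')
    (W : Submodule X.functionField V') (h : 0 < Deg δ (sub (tw T Λ) W)) : 1 ≤ Deg δ (sub (tw T Λ) W) := by
  have hfin' : Module.Finite X.functionField V' := Module.Finite.of_basis (T.tb b)
  obtain ⟨n, hn⟩ := Deg_int D.prin D.int (fam_sub (D.fam.tw T b) W) (Module.finBasis X.functionField W)
  rw [hn] at h ⊢
  exact_mod_cast h

variable [Module.Finite X.functionField M]

/-- **Rank two.** -/
theorem semistable_two (D : Data δ Λ ΛM d p) (b : Basis (Fin 2) X.functionField V) (T : Tw p X.functionField V V')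
    (hΛ : Deg δ Λ = 0) (hss : ∀ W : Submodule X.functionField V, Deg δ (sub Λ W) ≤ 0)
    (hM : ∀ U : Submodule X.functionField M, U ≠ ⊥ → Deg δ (sub ΛM U) < 2 * finrank X.functionField U)
    (W : Submodule X.functionField V') : Deg δ (sub (tw T Λ) W) ≤ 0 := by
  by_contra hc
  have h1 := one_le_of_pos D b T W (not_le.1 hc)
  have hfin' : Module.Finite X.functionField V' := Module.Finite.of_basis (T.tb b)
  have hΛ' := D.fam.tw T b
  have h2 : finrank X.functionField V' = 2 := by rw [Module.finrank_eq_card_basis (T.tb b), Fintype.card_fin]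
  have h3 := W.finrank_quotient_add_finrank
  have h4 : finrank X.functionField W ≠ 0 := fun h => by
    rw [deg_sub_bot D.prin hΛ' W h] at h1
    norm_num at h1
  have h5 : finrank X.functionField (V' ⧸ W) ≠ 0 := fun h => by
    rw [deg_sub_top D.prin hΛ' W h, Deg_tw D.prin D.fam T b, hΛ] at h1
    norm_num at h1
  have h6 : finrank X.functionField W = 1 := by omega
  have h7 : finrank X.functionField (V' ⧸ W) = 1 := by omega
  let bQ := Module.finBasisOfFinrankEq X.functionField (V' ⧸ W) h7
  have h8 := ineq_hyper (T := T) D b hΛ W bQ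
  by_cases h9 : LinearMap.range (betaL d (T.tb b) W (qf W bQ) (qf_eq_zero W bQ)) = ⊥
  · have h10 := descent_hyper (T := T) D b W bQ h9
    have h11 := hss (T.pre W)
    have h12 : (0 : ℚ) ≤ p := Nat.cast_nonneg p
    rw [h10] at h1
    nlinarith
  · have h10 := hM _ h9
    have h11 := LinearMap.finrank_range_add_finrank_ker (betaL d (T.tb b) W (qf W bQ) (qf_eq_zero W bQ))
    have h12 : finrank X.functionField (LinearMap.range (betaL d (T.tb b) W (qf W bQ) (qf_eq_zero W bQ))) ≠ 0 :=
      fun h => h9 (Submodule.finrank_eq_zero.1 h)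
    have h13 : finrank X.functionField (LinearMap.ker (betaL d (T.tb b) W (qf W bQ) (qf_eq_zero W bQ))) = 0 := by omega
    have h14 : finrank X.functionField (LinearMap.range (betaL d (T.tb b) W (qf W bQ) (qf_eq_zero W bQ))) = 1 := by omega
    have h15 := deg_sub_bot D.prin (fam_sub hΛ' W) _ h13
    simp only [h15, h14] at h8 h10
    push_cast at h8 h10
    linarith

omit [Fact p.Prime] [CharP X.functionField p] [Module.Finite X.functionField M] in
/-- Lines in the dual of a quotient come from hyperplanes. -/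
theorem deg_dual_line (hδ : IsPrin δ) (h0 : ∀ y, 0 ≤ δ y) {Λ' : LFam X V'} (h : IsFam Λ')
    [Module.Finite X.functionField V'] (hΛ : Deg δ Λ' = 0) (ℓ : Submodule X.functionField V')
    (N : Submodule X.functionField (Dl X (V' ⧸ ℓ))) (hN : finrank X.functionField N = 1) :
    ∃ P : Submodule X.functionField V', Deg δ (sub (dual (quo Λ' ℓ)) N) ≤ Deg δ (sub Λ' P) := by
  let bQl := Module.finBasis X.functionField (V' ⧸ ℓ)
  have hfinD : Module.Finite X.functionField (Dl X (V' ⧸ ℓ)) := Module.Finite.of_basis (db bQl)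
  let bN := Module.finBasisOfFinrankEq X.functionField N hN
  let q1 : V' →ₗ[X.functionField] X.functionField := (bN 0 : Dl X (V' ⧸ ℓ)).fn.comp ℓ.mkQ
  have hq1 : q1 ≠ 0 := fun h1 => by
    apply bN.ne_zero 0
    apply Subtype.ext
    refine Dl.ext fun v => ?_
    obtain ⟨v, rfl⟩ := ℓ.mkQ_surjective v
    exact LinearMap.congr_fun h1 v
  let P := LinearMap.ker q1
  have hP : finrank X.functionField (V' ⧸ P) = 1 := by
    rw [q1.quotKerEquivRange.finrank_eq, LinearMap.range_eq_top.2 (LinearMap.surjective hq1), finrank_top,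
      Module.finrank_self]
  let bQ := Module.finBasisOfFinrankEq X.functionField (V' ⧸ P) hP
  let q' : (V' ⧸ P) →ₗ[X.functionField] X.functionField := P.liftQ q1 le_rfl
  let qd : Dl X (V' ⧸ P) := q'
  have hqd : qd ≠ 0 := fun h1 => hq1 (LinearMap.ext fun v => by
    have h2 : qd.fn (P.mkQ v) = 0 := by
      rw [h1]
      rfl
    exact h2)
  have hD1 : finrank X.functionField (Dl X (V' ⧸ P)) = 1 := by
    rw [Module.finrank_eq_card_basis (db bQ), Fintype.card_fin]
  let bD : Basis (Fin 1) X.functionField (Dl X (V' ⧸ P)) := FiniteDimensional.basisSingleton (Fin 1) hD1 qd hqd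
  have hbD : bD 0 = qd := FiniteDimensional.basisSingleton_apply (Fin 1) hD1 qd hqd 0
  let e : N ≃ₗ[X.functionField] Dl X (V' ⧸ P) := bN.equiv bD (Equiv.refl _)
  have he : ∀ (n : N) (v : V'), (e n).fn (P.mkQ v) = (n : Dl X (V' ⧸ ℓ)).fn (ℓ.mkQ v) := by
    intro n v
    have h1 : n = bN.repr n 0 • bN 0 := by
      conv_lhs => rw [← bN.sum_repr n]
      rw [Fin.sum_univ_one]
    have h2 : e n = bN.repr n 0 • qd := by
      conv_lhs => rw [h1]
      rw [map_smul]
      congr 1
      rw [← hbD]
      exact bN.equiv_apply 0 bD (Equiv.refl _)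
    rw [h2]
    conv_rhs => rw [h1]
    rfl
  refine ⟨P, ?_⟩
  have hq := fam_quo h P
  have h1 := Deg_le_of_equiv hδ h0 (fam_sub ((fam_quo h ℓ).dual bQl) N) (hq.dual bQ) e bN (fun y n hn => by
    rintro _ ⟨v, hv, rfl⟩
    obtain ⟨r, hr⟩ := hn (ℓ.mkQ v) ⟨v, hv, rfl⟩
    exact ⟨r, hr.trans (he n v).symm⟩)
  rw [Deg_dual hδ hq bQ] at h1
  have h2 := deg_exact hδ h P
  linarith

/-- **Rank three.** -/
theorem semistable_three (D : Data δ Λ ΛM d p) (b : Basis (Fin 3) X.functionField V) (T : Tw p X.functionField V V')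
    (hΛ : Deg δ Λ = 0) (hss : ∀ W : Submodule X.functionField V, Deg δ (sub Λ W) ≤ 0)
    (hM : ∀ U : Submodule X.functionField M, U ≠ ⊥ → Deg δ (sub ΛM U) < finrank X.functionField U)
    (W : Submodule X.functionField V') : Deg δ (sub (tw T Λ) W) ≤ 0 := by
  by_contra hc
  obtain ⟨W, hW⟩ := (exists_max D b T).imp fun W' h => (⟨(not_le.1 hc).trans_le (h W), h⟩ : _ ∧ _)
  obtain ⟨hpos, hmax⟩ := hW
  have h1 := one_le_of_pos D b T W hpos
  have hfin' : Module.Finite X.functionField V' := Module.Finite.of_basis (T.tb b)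
  have hΛ' := D.fam.tw T b
  have hΛ0 : Deg δ (tw T Λ) = 0 := by rw [Deg_tw D.prin D.fam T b, hΛ, mul_zero]
  have h2 : finrank X.functionField V' = 3 := by rw [Module.finrank_eq_card_basis (T.tb b), Fintype.card_fin]
  have h3 := W.finrank_quotient_add_finrank
  have h4 : finrank X.functionField W ≠ 0 := fun h => by
    rw [deg_sub_bot D.prin hΛ' W h] at h1
    norm_num at h1
  have h5 : finrank X.functionField (V' ⧸ W) ≠ 0 := fun h => by
    rw [deg_sub_top D.prin hΛ' W h, hΛ0] at h1
    norm_num at h1
  have h12 : (0 : ℚ) ≤ p := Nat.cast_nonneg p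
  have h67 : finrank X.functionField W = 1 ∨ finrank X.functionField (V' ⧸ W) = 1 := by omega
  rcases h67 with h6 | h7
  · let bL := Module.finBasisOfFinrankEq X.functionField W h6
    have h8 := ineq_line (T := T) D b hΛ W bL
    by_cases h9 : LinearMap.range (betaR d (T.tb b) W (bL 0 : V')) = ⊥
    · have h10 := descent_line (T := T) D b W bL h9
      have h11 := hss (T.pre W)
      rw [h10] at h1
      nlinarith
    · have h10 := hM _ h9
      let bQ := Module.finBasis X.functionField (V' ⧸ W)
      have hfinD : Module.Finite X.functionField (Dl X (V' ⧸ W)) := Module.Finite.of_basis (db bQ)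
      have h11 := LinearMap.finrank_range_add_finrank_ker (betaR d (T.tb b) W (bL 0 : V'))
      have h13 : finrank X.functionField (Dl X (V' ⧸ W)) = 2 := by
        rw [Module.finrank_eq_card_basis (db bQ), Fintype.card_fin]
        omega
      have h14 : finrank X.functionField (LinearMap.range (betaR d (T.tb b) W (bL 0 : V'))) ≠ 0 :=
        fun h => h9 (Submodule.finrank_eq_zero.1 h)
      have h15 : Deg δ (sub (dual (quo (tw T Λ) W)) (LinearMap.ker (betaR d (T.tb b) W (bL 0 : V')))) ≤
          Deg δ (sub (tw T Λ) W) := by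
        have h16 : finrank X.functionField (LinearMap.ker (betaR d (T.tb b) W (bL 0 : V'))) = 0 ∨
            finrank X.functionField (LinearMap.ker (betaR d (T.tb b) W (bL 0 : V'))) = 1 := by omega
        rcases h16 with h16 | h16
        · rw [deg_sub_bot D.prin ((fam_quo hΛ' W).dual bQ) _ h16]
          exact hpos.le
        · obtain ⟨P, hP⟩ := deg_dual_line D.prin D.nonneg hΛ' hΛ0 W _ h16
          exact hP.trans (hmax P)
      have h17 : (1 : ℚ) ≤ finrank X.functionField (LinearMap.range (betaR d (T.tb b) W (bL 0 : V'))) := by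
        exact_mod_cast Nat.one_le_iff_ne_zero.2 h14
      nlinarith
  · let bQ := Module.finBasisOfFinrankEq X.functionField (V' ⧸ W) h7
    have h8 := ineq_hyper (T := T) D b hΛ W bQ
    by_cases h9 : LinearMap.range (betaL d (T.tb b) W (qf W bQ) (qf_eq_zero W bQ)) = ⊥
    · have h10 := descent_hyper (T := T) D b W bQ h9
      have h11 := hss (T.pre W)
      rw [h10] at h1
      nlinarith
    · have h10 := hM _ h9
      have h14 : finrank X.functionField (LinearMap.range (betaL d (T.tb b) W (qf W bQ) (qf_eq_zero W bQ))) ≠ 0 :=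
        fun h => h9 (Submodule.finrank_eq_zero.1 h)
      have h15 := (deg_sub_sub D.prin D.nonneg hΛ' W
        (LinearMap.ker (betaL d (T.tb b) W (qf W bQ) (qf_eq_zero W bQ)))).trans (hmax _)
      have h17 : (1 : ℚ) ≤ finrank X.functionField
          (LinearMap.range (betaL d (T.tb b) W (qf W bQ) (qf_eq_zero W bQ))) := by
        exact_mod_cast Nat.one_le_iff_ne_zero.2 h14
      dsimp only at h8
      nlinarith

end K752.Ranks
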