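import Mathlib.RingTheory.Derivation.Basic
import Mathlib.LinearAlgebra.Dimension.Constructions
import Mathlib.LinearAlgebra.Matrix.Basis
import Mathlib.LinearAlgebra.Determinant
import Mathlib.Algebra.CharP.Frobenius
import Mathlib.Algebra.CharP.Lemmas

/-!
# Frobenius twists of vector spaces, the second fundamental form, and descent

* `Tw p K V V'`: a `p`-semilinear map `V → V'` carrying bases to bases;
* `theta`: the second fundamental form `Σ q(b_i) d(w_i)`, independent of the basis `b_i = ψ(e_i)`;
* `descent`: a subspace of `V'` with vanishing second fundamental form is spanned by the image of a subspace of `V`.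
-/

set_option autoImplicit false

open Module

namespace K752.Semi

variable {K : Type*} [Field K] {V V' M : Type*} [AddCommGroup V] [Module K V] [AddCommGroup V'] [Module K V']
  [AddCommGroup M] [Module K M]

/-- A `p`-semilinear map carrying bases to bases. -/
structure Tw (p : ℕ) (K V V' : Type*) [Field K] [AddCommGroup V] [Module K V] [AddCommGroup V'] [Module K V'] where
  ψ : V →+ V'
  smul : ∀ (a : K) (v : V), ψ (a • v) = a ^ p • ψ v
  basis : ∀ (r : ℕ) (b : Basis (Fin r) K V), ∃ b' : Basis (Fin r) K V', ∀ i, b' i = ψ (b i)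

variable {p : ℕ} {ι κ : Type} [Fintype ι] [Fintype κ]

namespace Tw

variable (T : Tw p K V V')

theorem exists_basis (b : Basis ι K V) : ∃ b' : Basis ι K V', ∀ i, b' i = T.ψ (b i) := by
  obtain ⟨b', hb'⟩ := T.basis _ (b.reindex (Fintype.equivFin ι))
  refine ⟨b'.reindex (Fintype.equivFin ι).symm, fun i => ?_⟩
  rw [Basis.reindex_apply, hb', Basis.reindex_apply]
  simp

/-- The basis of the twist. -/
noncomputable def tb (b : Basis ι K V) : Basis ι K V' := (T.exists_basis b).choose

theorem tb_apply (b : Basis ι K V) (i : ι) : T.tb b i = T.ψ (b i) := (T.exists_basis b).choose_spec i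

theorem ψ_eq (b : Basis ι K V) (v : V) : T.ψ v = ∑ i, (b.repr v i) ^ p • T.tb b i := by
  conv_lhs => rw [← b.sum_repr v]
  rw [map_sum]
  refine Finset.sum_congr rfl fun i _ => ?_
  rw [T.smul, tb_apply]

theorem repr_ψ (b : Basis ι K V) (v : V) (i : ι) : (T.tb b).repr (T.ψ v) i = (b.repr v i) ^ p := by
  rw [T.ψ_eq b, Basis.repr_sum_self]

/-- The subspace of the vectors with image in a subspace. -/
def pre (W : Submodule K V') : Submodule K V where
  carrier := {v | T.ψ v ∈ W}
  add_mem' {a b} ha hb := by
    change T.ψ (a + b) ∈ W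
    rw [map_add]
    exact W.add_mem ha hb
  zero_mem' := by
    change T.ψ 0 ∈ W
    rw [map_zero]
    exact W.zero_mem
  smul_mem' a v hv := by
    change T.ψ (a • v) ∈ W
    rw [T.smul]
    exact W.smul_mem _ hv

theorem mem_pre (W : Submodule K V') (v : V) : v ∈ T.pre W ↔ T.ψ v ∈ W := Iff.rfl

/-- The twist of a subspace. -/
def post (W : Submodule K V) : Submodule K V' := Submodule.span K (T.ψ '' W)

end Tw

section theta

/-- The second fundamental form in a basis. -/
noncomputable def theta (d : Derivation ℤ K M) (b : Basis ι K V') (w : V') (q : V' →ₗ[K] K) : M :=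
  ∑ i, q (b i) • d (b.repr w i)

theorem theta_add (d : Derivation ℤ K M) (b : Basis ι K V') (w w' : V') (q : V' →ₗ[K] K) :
    theta d b (w + w') q = theta d b w q + theta d b w' q := by
  simp only [theta, ← Finset.sum_add_distrib]
  refine Finset.sum_congr rfl fun i _ => ?_
  rw [map_add, Finsupp.add_apply, map_add, smul_add]

theorem theta_smul (d : Derivation ℤ K M) (b : Basis ι K V') (a : K) (w : V') (q : V' →ₗ[K] K) :
    theta d b (a • w) q = a • theta d b w q + q w • d a := by
  have h1 : q w = ∑ i, b.repr w i * q (b i) := by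
    conv_lhs => rw [← b.sum_repr w]
    rw [map_sum]
    refine Finset.sum_congr rfl fun i _ => ?_
    rw [map_smul, smul_eq_mul]
  rw [h1, Finset.sum_smul]
  simp only [theta, Finset.smul_sum, ← Finset.sum_add_distrib]
  refine Finset.sum_congr rfl fun i _ => ?_
  rw [map_smul, Finsupp.smul_apply, smul_eq_mul, Derivation.leibniz, smul_add, smul_smul, smul_smul, smul_smul]
  congr 2
  · rw [mul_comm]
  · rw [mul_comm]

theorem theta_add_right (d : Derivation ℤ K M) (b : Basis ι K V') (w : V') (q q' : V' →ₗ[K] K) :
    theta d b w (q + q') = theta d b w q + theta d b w q' := by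
  simp only [theta, ← Finset.sum_add_distrib]
  refine Finset.sum_congr rfl fun i _ => ?_
  rw [LinearMap.add_apply, add_smul]

theorem theta_smul_right (d : Derivation ℤ K M) (b : Basis ι K V') (a : K) (w : V') (q : V' →ₗ[K] K) :
    theta d b w (a • q) = a • theta d b w q := by
  simp only [theta, Finset.smul_sum]
  refine Finset.sum_congr rfl fun i _ => ?_
  rw [LinearMap.smul_apply, smul_eq_mul, mul_smul]

variable [CharP K p]

omit [CharP K p] in
theorem d_pow_mul [CharP K p] (d : Derivation ℤ K M) (a x : K) : d (a ^ p * x) = a ^ p • d x := by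
  rw [Derivation.leibniz, Derivation.leibniz_pow, ← Nat.cast_smul_eq_nsmul K, CharP.cast_eq_zero, zero_smul, smul_zero,
    add_zero]

/-- The second fundamental form does not depend on the basis. -/
theorem theta_indep (T : Tw p K V V') (d : Derivation ℤ K M) (b : Basis ι K V) (c : Basis κ K V) (w : V')
    (q : V' →ₗ[K] K) : theta d (T.tb b) w q = theta d (T.tb c) w q := by
  have h1 : ∀ i, (T.tb b).repr w i = ∑ j, (b.repr (c j) i) ^ p * (T.tb c).repr w j := by
    intro i
    conv_lhs => rw [← (T.tb c).sum_repr w]
    rw [map_sum, Finset.sum_apply']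
    refine Finset.sum_congr rfl fun j _ => ?_
    rw [map_smul, Finsupp.smul_apply, T.tb_apply, T.repr_ψ, smul_eq_mul, mul_comm]
  have h2 : ∀ j, q (T.tb c j) = ∑ i, (b.repr (c j) i) ^ p * q (T.tb b i) := by
    intro j
    rw [T.tb_apply c, T.ψ_eq b, map_sum]
    refine Finset.sum_congr rfl fun i _ => ?_
    rw [map_smul, smul_eq_mul]
  simp only [theta, h1, h2, map_sum, Finset.smul_sum, Finset.sum_smul]
  rw [Finset.sum_comm]
  refine Finset.sum_congr rfl fun j _ => Finset.sum_congr rfl fun i _ => ?_
  rw [d_pow_mul, smul_smul, mul_comm]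

omit [CharP K p] in
/-- **Descent.**  A subspace with vanishing second fundamental form descends through Frobenius. -/
theorem descent (T : Tw p K V V') (d : Derivation ℤ K M) (hd : ∀ c : K, d c = 0 → ∃ a, a ^ p = c)
    (b : Basis ι K V) (W : Submodule K V')
    (h : ∀ w ∈ W, ∀ q : V' →ₗ[K] K, (∀ w' ∈ W, q w' = 0) → theta d (T.tb b) w q = 0) :
    T.post (T.pre W) = W := by
  classical
  refine le_antisymm (Submodule.span_le.2 (by rintro _ ⟨v, hv, rfl⟩; exact hv)) ?_
  let b' := T.tb b
  obtain ⟨κ, a, ha, hspan, hli⟩ := exists_linearIndependent' K (W.mkQ ∘ b')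
  have htop : ⊤ ≤ Submodule.span K (Set.range ((W.mkQ ∘ b') ∘ a)) := by
    rw [hspan, Set.range_comp, ← Submodule.map_span, b'.span_eq, Submodule.map_top, W.range_mkQ]
  let qb : Basis κ K (V' ⧸ W) := Basis.mk hli htop
  have hqb : ∀ t, qb t = W.mkQ (b' (a t)) := fun t => by simp [qb]
  have : Fintype κ := Fintype.ofInjective a ha
  let c : ι → κ → K := fun j t => qb.repr (W.mkQ (b' j)) t
  have hct : ∀ t t', c (a t) t' = if t = t' then 1 else 0 := fun t t' => by
    change qb.repr (W.mkQ (b' (a t))) t' = _
    rw [← hqb, Basis.repr_self, Finsupp.single_apply]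
  let w : ι → V' := fun j => b' j - ∑ t, c j t • b' (a t)
  have hw : ∀ j, w j ∈ W := by
    intro j
    rw [← W.ker_mkQ, LinearMap.mem_ker, map_sub, map_sum, sub_eq_zero]
    conv_lhs => rw [← qb.sum_repr (W.mkQ (b' j))]
    refine Finset.sum_congr rfl fun t _ => ?_
    rw [map_smul, hqb]
  have hrep : ∀ j i, b'.repr (w j) i = (if j = i then 1 else 0) - ∑ t, c j t * (if a t = i then 1 else 0) := by
    intro j i
    simp only [w, map_sub, map_sum, map_smul, Basis.repr_self, Finsupp.sub_apply, Finsupp.single_apply]
    rw [Finset.sum_apply']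
    congr 1
    refine Finset.sum_congr rfl fun t _ => ?_
    rw [Finsupp.smul_apply, Finsupp.single_apply, smul_eq_mul]
  have hdc : ∀ j t, d (c j t) = 0 := by
    intro j t
    let q : V' →ₗ[K] K := (qb.coord t).comp W.mkQ
    have h1 := h (w j) (hw j) q (fun w' hw' => by
      change qb.coord t (W.mkQ w') = 0
      rw [W.mkQ_apply, (Submodule.Quotient.mk_eq_zero W).2 hw', map_zero])
    have h2 : ∀ i, d (b'.repr (w j) i) = - ∑ t', (if a t' = i then (1 : K) else 0) • d (c j t') := by
      intro i
      rw [hrep, map_sub, map_sum]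
      have h3 : d (if j = i then (1 : K) else 0) = 0 := by
        split_ifs
        · exact d.map_one_eq_zero
        · exact map_zero d
      rw [h3, zero_sub]
      congr 1
      refine Finset.sum_congr rfl fun t' _ => ?_
      split_ifs <;> simp
    rw [theta] at h1
    have h4 : ∑ i, q (b' i) • d (b'.repr (w j) i) = - ∑ t', q (b' (a t')) • d (c j t') := by
      simp only [h2, smul_neg, Finset.sum_neg_distrib, Finset.smul_sum]
      congr 1
      rw [Finset.sum_comm]
      refine Finset.sum_congr rfl fun t' _ => ?_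
      rw [Finset.sum_eq_single (a t')]
      · simp
      · intro i _ hi
        simp [hi.symm]
      · intro hi
        exact absurd (Finset.mem_univ _) hi
    rw [h4] at h1
    have h5 : ∀ t', q (b' (a t')) = if t' = t then 1 else 0 := fun t' => hct t' t
    simp only [h5] at h1
    simpa using h1
  choose e he using fun j t => hd (c j t) (hdc j t)
  have hv : ∀ j, T.ψ (b j - ∑ t, e j t • b (a t)) = w j := by
    intro j
    rw [map_sub, map_sum]
    simp only [T.smul, he, ← T.tb_apply]
    rfl
  intro x hx
  have h6 : x = ∑ j, b'.repr x j • w j := by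
    simp only [w, smul_sub, Finset.sum_sub_distrib, Finset.smul_sum, smul_smul]
    rw [b'.sum_repr, Finset.sum_comm]
    have h7 : ∀ t, ∑ j, b'.repr x j * c j t = 0 := by
      intro t
      have h8 : qb.repr (W.mkQ x) t = 0 := by
        rw [W.mkQ_apply, (Submodule.Quotient.mk_eq_zero W).2 hx, map_zero]
        rfl
      rw [← h8]
      conv_rhs => rw [← b'.sum_repr x]
      rw [map_sum, map_sum, Finset.sum_apply']
      refine Finset.sum_congr rfl fun j _ => ?_
      rw [map_smul, map_smul, Finsupp.smul_apply, smul_eq_mul]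
    simp only [← Finset.sum_smul, h7, zero_smul, Finset.sum_const_zero, sub_zero]
  rw [h6]
  refine Submodule.sum_mem _ fun j _ => Submodule.smul_mem _ _ (Submodule.subset_span ⟨_, ?_, hv j⟩)
  change T.ψ _ ∈ W
  rw [hv j]
  exact hw j

end theta

end K752.Semi
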